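/-
Frames of finite projective modules and the reversed characteristic polynomial.
-/
import Mathlib.LinearAlgebra.Matrix.Charpoly.Coeff
import Mathlib.LinearAlgebra.Matrix.SchurComplement
import Mathlib.LinearAlgebra.Matrix.ToLin
import Mathlib.RingTheory.TensorProduct.Basic
import Mathlib.Algebra.Module.Projective
import Mathlib.RingTheory.Finiteness.Projective

set_option autoImplicit false

universe u v w

open Polynomial TensorProduct

namespace GrpdLib

variable {R : Type u} [CommRing R] {M : Type v} [AddCommGroup M] [Module R M]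

/-- A finite frame (dual basis) of a module. -/
structure Frame (R : Type u) [CommRing R] (M : Type v) [AddCommGroup M] [Module R M] (n : ℕ) where
  vec : Fin n → M
  dual : Fin n → M →ₗ[R] R
  sum_eq : ∀ x, ∑ i, dual i x • vec i = x

variable (R M) in
theorem exists_frame [Module.Finite R M] [Module.Projective R M] :
    ∃ n, Nonempty (Frame R M n) := by
  obtain ⟨n, f, g, -, -, hfg⟩ := Module.Finite.exists_comp_eq_id_of_projective R M
  refine ⟨n, ⟨⟨fun i => f (Pi.single i 1), fun i => LinearMap.proj i ∘ₗ g, fun x => ?_⟩⟩⟩
  conv_rhs => rw [← LinearMap.id_apply (R := R) x, ← hfg, LinearMap.comp_apply,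
    ← (Finset.univ_sum_single (g x)), map_sum]
  refine Finset.sum_congr rfl fun i _ => ?_
  rw [LinearMap.comp_apply, LinearMap.proj_apply, ← map_smul, ← Pi.single_smul', smul_eq_mul,
    mul_one]

namespace Frame

variable {n m : ℕ} (F : Frame R M n) (G : Frame R M m)

/-- The matrix of an endomorphism. -/
def mat (g : M →ₗ[R] M) : Matrix (Fin n) (Fin n) R := Matrix.of fun i j => F.dual i (g (F.vec j))

/-- `det (1 - X g)`. -/
noncomputable def rev (g : M →ₗ[R] M) : R[X] := (F.mat g).charpolyRev

theorem rev_eq (g : M →ₗ[R] M) : F.rev g = G.rev g := by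
  let U : Matrix (Fin n) (Fin m) R := Matrix.of fun i l => F.dual i (g (G.vec l))
  let V : Matrix (Fin m) (Fin n) R := Matrix.of fun l j => G.dual l (F.vec j)
  have hUV : F.mat g = U * V := by
    ext i j
    simp only [mat, U, V, Matrix.of_apply, Matrix.mul_apply]
    conv_lhs => rw [← G.sum_eq (F.vec j)]
    simp [map_sum, mul_comm]
  have hVU : G.mat g = V * U := by
    ext i j
    simp only [mat, U, V, Matrix.of_apply, Matrix.mul_apply]
    conv_lhs => rw [← F.sum_eq (g (G.vec j))]
    simp [map_sum, mul_comm]
  rw [rev, rev, hUV, hVU, Matrix.charpolyRev, Matrix.charpolyRev, Matrix.map_mul, Matrix.map_mul,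
    ← Matrix.smul_mul, Matrix.det_one_sub_mul_comm, Matrix.mul_smul]

/-- The kernel of `aeval` of the characteristic polynomial. -/
theorem aeval_charpoly (g : M →ₗ[R] M) : Polynomial.aeval g (F.mat g).charpoly = 0 := by
  let ι : M →ₗ[R] (Fin n → R) := LinearMap.pi F.dual
  have hι : ∀ q : R[X], ∀ x, Matrix.toLin' (Polynomial.aeval (F.mat g) q) (ι x) =
      ι (Polynomial.aeval g q x) := by
    intro q
    induction q using Polynomial.induction_on' with
    | add p q hp hq => intro x; simp [hp x, hq x]
    | monomial k c =>
      intro x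
      rw [Polynomial.aeval_monomial, Polynomial.aeval_monomial]
      simp only [Algebra.algebraMap_eq_smul_one, smul_mul_assoc, one_mul, map_smul,
        LinearMap.smul_apply]
      congr 1
      induction k generalizing x with
      | zero => simp
      | succ k ih =>
        rw [pow_succ, pow_succ, Matrix.toLin'_mul, LinearMap.comp_apply, Module.End.mul_apply,
          ← ih]
        congr 1
        ext i
        simp only [ι, LinearMap.pi_apply, Matrix.toLin'_apply, Matrix.mulVec, dotProduct, mat,
          Matrix.of_apply]
        conv_rhs => rw [← F.sum_eq x]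
        simp [map_sum, mul_comm]
  refine LinearMap.ext fun x => ?_
  have h := hι (F.mat g).charpoly x
  rw [Matrix.aeval_self_charpoly, map_zero, LinearMap.zero_apply] at h
  rw [← F.sum_eq (Polynomial.aeval g (F.mat g).charpoly x)]
  simp only [LinearMap.zero_apply]
  refine Finset.sum_eq_zero fun i _ => ?_
  rw [show F.dual i _ = ι (Polynomial.aeval g (F.mat g).charpoly x) i from rfl, ← h]
  simp

/-- Coefficients of the characteristic polynomial from those of its reverse. -/
theorem coeff_charpoly [Nontrivial R] (g : M →ₗ[R] M) {k : ℕ} (hk : k ≤ n) :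
    (F.mat g).charpoly.coeff k = (F.rev g).coeff (n - k) := by
  rw [rev, ← Matrix.reverse_charpoly, Polynomial.coeff_reverse,
    Matrix.charpoly_natDegree_eq_dim, Fintype.card_fin, Polynomial.revAt_le (by omega)]
  congr 1
  omega

/-- A basis is a frame. -/
noncomputable def ofBasis (b : Module.Basis (Fin n) R M) : Frame R M n where
  vec := b
  dual := b.coord
  sum_eq := b.sum_repr

theorem rev_id_ofBasis (b : Module.Basis (Fin n) R M) :
    (ofBasis b).rev LinearMap.id = (1 - X) ^ n := by
  have : (ofBasis b).mat LinearMap.id = 1 := by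
    ext i j
    simp [mat, ofBasis, Finsupp.single_apply, Matrix.one_apply, eq_comm]
  rw [rev, this, Matrix.charpolyRev, Matrix.map_one _ (map_zero _) (map_one _)]
  rw [show (1 : Matrix (Fin n) (Fin n) R[X]) - (X : R[X]) • (1 : Matrix (Fin n) (Fin n) R[X]) =
    Matrix.diagonal fun _ => 1 - X by
      ext i j
      by_cases h : i = j <;> simp [h, Matrix.one_apply, Matrix.diagonal]]
  simp [Matrix.det_diagonal]

variable {S : Type w} [CommRing S] [Algebra R S]

/-- Base change of a frame. -/
noncomputable def baseChange : Frame S (S ⊗[R] M) n where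
  vec i := 1 ⊗ₜ F.vec i
  dual i := (TensorProduct.AlgebraTensorModule.rid R S S).toLinearMap ∘ₗ
    (F.dual i).baseChange S
  sum_eq z := by
    induction z with
    | zero => simp
    | tmul s x =>
      conv_rhs => rw [← F.sum_eq x, TensorProduct.tmul_sum]
      refine Finset.sum_congr rfl fun i _ => ?_
      simp [TensorProduct.smul_tmul', TensorProduct.tmul_smul]
    | add p q hp hq => simp only [map_add, add_smul, Finset.sum_add_distrib, hp, hq]

theorem rev_baseChange (g : M →ₗ[R] M) :
    (F.baseChange (S := S)).rev (g.baseChange S) = (F.rev g).map (algebraMap R S) := by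
  rw [rev, rev, Matrix.charpolyRev, Matrix.charpolyRev]
  rw [← Polynomial.coe_mapRingHom, RingHom.map_det]
  congr 1
  ext i j
  by_cases h : i = j <;>
    simp [h, mat, baseChange, Matrix.one_apply, Algebra.algebraMap_eq_smul_one]

end Frame

end GrpdLib
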