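/-
Finite locally free equivalence relations in affine schemes: norms and invariants.
-/
import Groth.Agent.GrpdLib.Frame
import Mathlib.RingTheory.IntegralClosure.IsIntegralClosure.Basic
import Mathlib.RingTheory.Ideal.GoingUp
import Mathlib.RingTheory.Artinian.Ring
import Mathlib.RingTheory.Ideal.Operations

set_option autoImplicit false

universe u v w

open Polynomial TensorProduct

namespace GrpdLib

/-- The ring data of an affine groupoid `Spec C ⇉ Spec A`: the source map
is the algebra map, `p` is the projection of composable pairs to the composite, dual to the base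
change of the source along the target. -/
structure Grd (A : Type u) [CommRing A] (C : Type v) [CommRing C] [Algebra A C] where
  t : A →+* C
  e : C →+* A
  p : C →+* C ⊗[A] C
  e_s : ∀ a, e (algebraMap A C a) = a
  e_t : ∀ a, e (t a) = a
  p_s : ∀ a, p (algebraMap A C a) = t a ⊗ₜ 1
  p_t : ∀ a, p (t a) = 1 ⊗ₜ t a
  p_span : Submodule.span C (Set.range p) = ⊤
  p_dual : ∀ φ : C →ₗ[A] A, ∃ ψ : C ⊗[A] C →ₗ[C] C, ∀ y, ψ (p y) = t (φ y)

/-- The ring data of an affine equivalence relation. -/
structure EqvRel (A : Type u) [CommRing A] (C : Type v) [CommRing C] [Algebra A C]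
    extends Grd A C where
  t_span : Submodule.span A (Set.range t) = ⊤

namespace Grd

variable {A : Type u} [CommRing A] {C : Type v} [CommRing C] [Algebra A C] (E : Grd A C)

/-- The invariants. -/
def inv : Subring A := RingHom.eqLocus (algebraMap A C) E.t

theorem mem_inv {a : A} : a ∈ E.inv ↔ algebraMap A C a = E.t a := Iff.rfl

include E in
theorem injective_s : Function.Injective (algebraMap A C) :=
  Function.LeftInverse.injective E.e_s

include E in
/-- The section makes `c ↦ c ⊗ 1` injective. -/
theorem injective_tmul_one : Function.Injective fun c : C => c ⊗ₜ[A] (1 : C) := by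
  let el : C →ₗ[A] A :=
    { toFun := E.e
      map_add' := map_add E.e
      map_smul' := fun a x => by simp [Algebra.smul_def, E.e_s] }
  intro c d h
  have := congrArg ((TensorProduct.rid A C).toLinearMap ∘ₗ el.lTensor C) h
  simpa [el] using this

/-- The frame of pairs obtained along the target. -/
theorem exists_pFrame {n : ℕ} (F : Frame A C n) :
    ∃ G : Frame C (C ⊗[A] C) n, (∀ i, G.vec i = E.p (F.vec i)) ∧
      ∀ i y, G.dual i (E.p y) = E.t (F.dual i y) := by
  choose ψ hψ using fun i => E.p_dual (F.dual i)
  refine ⟨⟨fun i => E.p (F.vec i), ψ, fun z => ?_⟩, fun i => rfl, fun i y => hψ i y⟩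
  have hz : z ∈ Submodule.span C (Set.range E.p) := E.p_span.ge trivial
  induction hz using Submodule.span_induction with
  | mem z hz =>
    obtain ⟨y, rfl⟩ := hz
    conv_rhs => rw [← F.sum_eq y, map_sum]
    refine Finset.sum_congr rfl fun i _ => ?_
    rw [hψ i y, Algebra.smul_def (F.dual i y), map_mul, E.p_s, Algebra.smul_def]
    rfl
  | zero => simp
  | add p q _ _ hp hq => simp only [map_add, add_smul, Finset.sum_add_distrib, hp, hq]
  | smul c p _ hp =>
    simp only [map_smul, smul_assoc, ← Finset.smul_sum, hp]

/-- Multiplication by `t a`. -/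
noncomputable def mulT (a : A) : C →ₗ[A] C := LinearMap.mulLeft A (E.t a)

theorem map_rev {n : ℕ} (F : Frame A C n) (a : A) :
    (F.rev (E.mulT a)).map (algebraMap A C) = (F.rev (E.mulT a)).map E.t := by
  obtain ⟨G, hG1, hG2⟩ := E.exists_pFrame F
  rw [← Frame.rev_baseChange, Frame.rev_eq (F.baseChange (S := C)) G]
  rw [Frame.rev, Frame.rev, Matrix.charpolyRev, Matrix.charpolyRev,
    ← Polynomial.coe_mapRingHom, RingHom.map_det]
  congr 1
  have hmat : ∀ i j, G.mat ((E.mulT a).baseChange C) i j = E.t (F.mat (E.mulT a) i j) := by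
    intro i j
    simp only [Frame.mat, Matrix.of_apply]
    rw [← hG2, hG1]
    congr 1
    have h : ∀ z : C ⊗[A] C, (E.mulT a).baseChange C z = ((1 : C) ⊗ₜ[A] E.t a) * z := by
      intro z
      induction z with
      | zero => simp
      | tmul x y => simp [mulT, Algebra.TensorProduct.tmul_mul_tmul]
      | add p q hp hq => simp only [map_add, mul_add, hp, hq]
    rw [h, mulT, LinearMap.mulLeft_apply, map_mul, E.p_t]
  ext i j
  by_cases h : i = j <;> simp [h, hmat]

theorem coeff_rev_mem {n : ℕ} (F : Frame A C n) (a : A) (k : ℕ) :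
    (F.rev (E.mulT a)).coeff k ∈ E.inv := by
  rw [mem_inv]
  have := congrArg (fun q : C[X] => q.coeff k) (E.map_rev F a)
  simpa using this

theorem isIntegral [Module.Finite A C] [Module.Projective A C] [Nontrivial A] (a : A) :
    IsIntegral E.inv a := by
  obtain ⟨n, ⟨F⟩⟩ := exists_frame A C
  set P := (F.mat (E.mulT a)).charpoly with hP
  have hcoef : ∀ k, P.coeff k ∈ E.inv := by
    intro k
    by_cases hk : k ≤ n
    · rw [hP, F.coeff_charpoly _ hk]; exact E.coeff_rev_mem F a _
    · rw [hP, Polynomial.coeff_eq_zero_of_natDegree_lt]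
      · exact E.inv.zero_mem
      · rw [Matrix.charpoly_natDegree_eq_dim, Fintype.card_fin]; omega
  have hmonic : P.Monic := Matrix.charpoly_monic _
  have hsub : (↑P.coeffs : Set A) ⊆ E.inv := fun x hx => by
    obtain ⟨k, -, rfl⟩ := Polynomial.mem_coeffs_iff.mp hx
    exact hcoef k
  refine ⟨P.toSubring E.inv hsub, (Polynomial.monic_toSubring ..).mpr hmonic, ?_⟩
  have h1 := F.aeval_charpoly (E.mulT a)
  rw [← hP] at h1
  have h2 : P.eval₂ (algebraMap A C) (E.t a) = 0 := by
    have h3 : ∀ q : A[X], Polynomial.aeval (E.mulT a) q =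
        LinearMap.mulLeft A (Polynomial.eval₂ (algebraMap A C) (E.t a) q) := by
      intro q
      rw [← Polynomial.aeval_def]
      exact Polynomial.aeval_algHom_apply (Algebra.lmul A C) (E.t a) q
    have := LinearMap.congr_fun ((h3 P).symm.trans h1) 1
    simpa using this
  have h4 : P.eval₂ (RingHom.id A) a = 0 := by
    have := congrArg E.e h2
    rw [Polynomial.hom_eval₂, map_zero, E.e_t] at this
    rwa [show E.e.comp (algebraMap A C) = RingHom.id A from RingHom.ext E.e_s] at this
  rw [← Polynomial.map_toSubring P E.inv hsub, Polynomial.eval₂_map] at h4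
  exact h4

end Grd

end GrpdLib
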