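/-
Orbits of a finite locally free equivalence relation.
-/
import Groth.Agent.GrpdLib.Invariant
import Mathlib.RingTheory.QuasiFinite.Basic
import Mathlib.LinearAlgebra.Determinant
import Mathlib.RingTheory.LocalRing.ResidueField.Ideal

set_option autoImplicit false
set_option linter.unusedSectionVars false

universe u v w

open Polynomial TensorProduct

namespace GrpdLib.Grd

variable {A : Type u} [CommRing A] {C : Type v} [CommRing C] [Algebra A C] (E : Grd A C)

/-- The norm of `a` along the equivalence classes. -/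
noncomputable def norm {n : ℕ} (F : Frame A C n) (a : A) : A := (F.rev (E.mulT (1 - a))).eval 1

theorem norm_mem {n : ℕ} (F : Frame A C n) (a : A) : E.norm F a ∈ E.inv := by
  rw [norm, Polynomial.eval_eq_sum_range]
  exact E.inv.sum_mem fun k _ => E.inv.mul_mem (E.coeff_rev_mem F _ k) (E.inv.pow_mem E.inv.one_mem k)

include E in
/-- A module with a frame is finite. -/
theorem finite_of_frame {n : ℕ} (F : Frame A C n) : Module.Finite A C := by
  classical
  refine ⟨⟨Finset.univ.image F.vec, ?_⟩⟩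
  rw [eq_top_iff]
  rintro x -
  rw [← F.sum_eq x]
  exact Submodule.sum_mem _ fun i _ => Submodule.smul_mem _ _ (Submodule.subset_span (by simp))

/-- The norm vanishes at a field-valued point iff the function is not invertible on its class. -/
theorem norm_eq_zero_iff {n : ℕ} (F : Frame A C n) (a : A) (K : Type w) [Field K] [Algebra A K] :
    algebraMap A K (E.norm F a) = 0 ↔ ¬ IsUnit ((1 : K) ⊗ₜ[A] E.t a) := by
  classical
  have := E.finite_of_frame F
  let g := LinearMap.mulLeft K ((1 : K) ⊗ₜ[A] E.t a)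
  let b := Module.finBasis K (K ⊗[A] C)
  have hg : (E.mulT (1 - a)).baseChange K = LinearMap.id - g := by
    refine TensorProduct.AlgebraTensorModule.curry_injective (LinearMap.ext fun x =>
      LinearMap.ext fun c => ?_)
    simp [g, mulT, Algebra.TensorProduct.tmul_mul_tmul, TensorProduct.tmul_sub, sub_mul]
  have hdet : algebraMap A K (E.norm F a) = LinearMap.det g := by
    rw [norm, ← Polynomial.eval₂_at_apply (algebraMap A K) 1,
      map_one, ← Polynomial.eval_map, ← Frame.rev_baseChange, hg,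
      Frame.rev_eq _ (Frame.ofBasis b), Frame.rev, Matrix.charpolyRev,
      ← Polynomial.coe_evalRingHom, RingHom.map_det, ← LinearMap.det_toMatrix b g]
    congr 1
    ext i j
    simp [Frame.mat, Frame.ofBasis, LinearMap.toMatrix_apply, Matrix.one_apply, Finsupp.single_apply,
      eq_comm]
  rw [hdet]
  constructor
  · intro h0 hu
    exact LinearMap.det_eq_zero_iff_ker_ne_bot.mp h0
      (LinearMap.ker_eq_bot.mpr hu.mul_right_injective)
  · intro hu
    by_contra h0
    have hker := not_not.mp (mt LinearMap.det_eq_zero_iff_ker_ne_bot.mpr h0)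
    obtain ⟨z, hz⟩ := LinearMap.surjective_of_injective (LinearMap.ker_eq_bot.mp hker) 1
    exact hu (IsUnit.of_mul_eq_one _ hz)

/-- The norm vanishes at a point iff the function vanishes somewhere on its class. -/
theorem norm_mem_iff {n : ℕ} (F : Frame A C n) (a : A) (P : Ideal A) [P.IsPrime] :
    E.norm F a ∈ P ↔ ∃ Q : Ideal C, Q.IsPrime ∧ Q.comap (algebraMap A C) = P ∧ E.t a ∈ Q := by
  let K := P.ResidueField
  rw [← Ideal.algebraMap_residueField_eq_zero, E.norm_eq_zero_iff F a K]
  let φ : C →+* K ⊗[A] C := (Algebra.TensorProduct.includeRight : C →ₐ[A] K ⊗[A] C).toRingHom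
  constructor
  · intro hnu
    obtain ⟨M, hM, haM⟩ := exists_max_ideal_of_mem_nonunits (a := φ (E.t a)) hnu
    refine ⟨M.comap φ, Ideal.IsPrime.comap φ, ?_, haM⟩
    ext x
    rw [Ideal.mem_comap, Ideal.mem_comap,
      show φ (algebraMap A C x) = algebraMap K (K ⊗[A] C) (algebraMap A K x) from
        Algebra.TensorProduct.includeRight.commutes x]
    refine ⟨fun h => ?_, fun hx => ?_⟩
    · by_contra hx
      exact hM.ne_top (Ideal.eq_top_of_isUnit_mem _ h (IsUnit.map _
        (isUnit_iff_ne_zero.mpr fun h0 => hx (Ideal.algebraMap_residueField_eq_zero.mp h0))))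
    · rw [Ideal.algebraMap_residueField_eq_zero.mpr hx, map_zero]
      exact M.zero_mem
  · rintro ⟨Q, hQ, hQP, haQ⟩ hu
    have : Q.LiesOver P := ⟨hQP.symm⟩
    let ψ : K →ₐ[A] Q.ResidueField :=
      Ideal.ResidueField.mapₐ P Q (Algebra.ofId A C) hQP.symm
    let π : K ⊗[A] C →ₐ[A] Q.ResidueField :=
      Algebra.TensorProduct.lift ψ (IsScalarTower.toAlgHom A C Q.ResidueField)
        (fun _ _ => Commute.all _ _)
    refine (hu.map π).ne_zero ?_
    simp only [π, Algebra.TensorProduct.lift_tmul, map_one, one_mul, IsScalarTower.coe_toAlgHom']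
    exact Ideal.algebraMap_residueField_eq_zero.mpr haQ

/-- The primes equivalent to `P`. -/
def orbit (P : Ideal A) : Set (Ideal A) :=
  (fun Q : Ideal C => Q.comap E.t) '' P.primesOver C

theorem finite_orbit [Module.Finite A C] (P : Ideal A) : (E.orbit P).Finite :=
  (Algebra.QuasiFinite.finite_primesOver P).image _

theorem isPrime_of_mem_orbit {P P' : Ideal A} (h : P' ∈ E.orbit P) : P'.IsPrime := by
  obtain ⟨Q, ⟨hQ, -⟩, rfl⟩ := h
  exact Ideal.IsPrime.comap _

theorem comap_inv_of_mem_orbit {P P' : Ideal A} (h : P' ∈ E.orbit P) :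
    P'.comap E.inv.subtype = P.comap E.inv.subtype := by
  obtain ⟨Q, ⟨-, hQ⟩, rfl⟩ := h
  ext x
  simp only [Ideal.mem_comap, hQ.over, Ideal.mem_comap, Subring.coe_subtype]
  rw [E.mem_inv.1 x.2]

/-- Primes over the same invariant point are equivalent. -/
theorem mem_orbit_of_comap_eq [Module.Finite A C] [Module.Projective A C] [Nontrivial A]
    (P P' : Ideal A) [P.IsPrime] [P'.IsPrime]
    (h : P'.comap E.inv.subtype = P.comap E.inv.subtype) : P' ∈ E.orbit P := by
  obtain ⟨n, ⟨F⟩⟩ := exists_frame A C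
  have : Algebra.IsIntegral E.inv A := ⟨E.isIntegral⟩
  by_contra hne
  have : ¬ ((P' : Set A) ⊆ ⋃ J ∈ ((E.finite_orbit P).toFinset : Set (Ideal A)), (J : Set A)) := by
    rw [Ideal.subset_union_prime ⊥ ⊥ (fun J hJ _ _ => E.isPrime_of_mem_orbit (by simpa using hJ))]
    rintro ⟨J, hJ, hle⟩
    have hJ' : J ∈ E.orbit P := by simpa using hJ
    have := E.isPrime_of_mem_orbit hJ'
    suffices hJP : J = P' from hne (hJP ▸ hJ')
    by_contra hne'
    have h1 := Ideal.IsIntegral.comap_lt_comap (R := E.inv) (I := P') (J := J)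
      (lt_of_le_of_ne hle fun he => hne' he.symm)
    exact h1.ne (h.trans (E.comap_inv_of_mem_orbit hJ').symm)
  obtain ⟨a, haP', ha⟩ := Set.not_subset.mp this
  have h1 : E.norm F a ∈ P' := by
    rw [E.norm_mem_iff F a P']
    refine ⟨P'.comap E.e, Ideal.IsPrime.comap _, ?_, ?_⟩
    · ext x; simp [E.e_s]
    · simpa [E.e_t] using haP'
  have h2 : E.norm F a ∈ P := by
    have h3 : (⟨_, E.norm_mem F a⟩ : E.inv) ∈ P'.comap E.inv.subtype := h1
    rw [h] at h3
    exact h3
  obtain ⟨Q, hQ, hQP, haQ⟩ := (E.norm_mem_iff F a P).mp h2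
  apply ha
  simp only [Set.mem_iUnion]
  exact ⟨Q.comap E.t, (E.finite_orbit P).mem_toFinset.mpr ⟨Q, ⟨hQ, ⟨hQP.symm⟩⟩, rfl⟩, haQ⟩

end GrpdLib.Grd
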