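/-
The norm of a finite projective algebra.
-/
import Groth.Agent.GrpdLib.Orbit

set_option autoImplicit false

universe u v w

open Polynomial TensorProduct

namespace GrpdLib.Frame

variable {A : Type u} [CommRing A] {C : Type v} [CommRing C] [Algebra A C] {n : ℕ} (F : Frame A C n)

include F in
theorem finite' : Module.Finite A C := by
  classical
  refine ⟨⟨Finset.univ.image F.vec, ?_⟩⟩
  rw [eq_top_iff]
  rintro x -
  rw [← F.sum_eq x]
  exact Submodule.sum_mem _ fun i _ => Submodule.smul_mem _ _ (Submodule.subset_span (by simp))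

/-- The norm of an element of a finite projective algebra. -/
noncomputable def normF (h : C) : A := (F.rev (LinearMap.mulLeft A (1 - h))).eval 1

theorem normF_eq_zero_iff (h : C) (K : Type w) [Field K] [Algebra A K] :
    algebraMap A K (F.normF h) = 0 ↔ ¬ IsUnit ((1 : K) ⊗ₜ[A] h) := by
  classical
  have := F.finite'
  let g := LinearMap.mulLeft K ((1 : K) ⊗ₜ[A] h)
  let b := Module.finBasis K (K ⊗[A] C)
  have hg : (LinearMap.mulLeft A (1 - h)).baseChange K = LinearMap.id - g := by
    refine TensorProduct.AlgebraTensorModule.curry_injective (LinearMap.ext fun x =>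
      LinearMap.ext fun c => ?_)
    simp [g, Algebra.TensorProduct.tmul_mul_tmul, TensorProduct.tmul_sub, sub_mul]
  have hdet : algebraMap A K (F.normF h) = LinearMap.det g := by
    rw [normF, ← Polynomial.eval₂_at_apply (algebraMap A K) 1,
      map_one, ← Polynomial.eval_map, ← Frame.rev_baseChange, hg,
      Frame.rev_eq _ (Frame.ofBasis b), Frame.rev, Matrix.charpolyRev,
      ← Polynomial.coe_evalRingHom, RingHom.map_det, ← LinearMap.det_toMatrix b g]
    congr 1
    ext i j
    simp [Frame.mat, Frame.ofBasis, LinearMap.toMatrix_apply, Matrix.one_apply, Finsupp.single_apply,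
      eq_comm]
  rw [hdet]
  constructor
  · intro h0 hu
    exact LinearMap.det_eq_zero_iff_ker_ne_bot.mp h0
      (LinearMap.ker_eq_bot.mpr hu.mul_right_injective)
  · intro hu
    by_contra h0
    have hker := not_not.mp (mt LinearMap.det_eq_zero_iff_ker_ne_bot.mpr h0)
    obtain ⟨z, hz⟩ := LinearMap.surjective_of_injective (LinearMap.ker_eq_bot.mp hker) 1
    exact hu (IsUnit.of_mul_eq_one _ hz)

theorem normF_mem_iff (h : C) (P : Ideal A) [P.IsPrime] :
    F.normF h ∈ P ↔ ∃ Q : Ideal C, Q.IsPrime ∧ Q.comap (algebraMap A C) = P ∧ h ∈ Q := by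
  let K := P.ResidueField
  rw [← Ideal.algebraMap_residueField_eq_zero, F.normF_eq_zero_iff h K]
  let φ : C →+* K ⊗[A] C := (Algebra.TensorProduct.includeRight : C →ₐ[A] K ⊗[A] C).toRingHom
  constructor
  · intro hnu
    obtain ⟨M, hM, haM⟩ := exists_max_ideal_of_mem_nonunits (a := φ h) hnu
    refine ⟨M.comap φ, Ideal.IsPrime.comap φ, ?_, haM⟩
    ext x
    rw [Ideal.mem_comap, Ideal.mem_comap,
      show φ (algebraMap A C x) = algebraMap K (K ⊗[A] C) (algebraMap A K x) from
        Algebra.TensorProduct.includeRight.commutes x]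
    refine ⟨fun h => ?_, fun hx => ?_⟩
    · by_contra hx
      exact hM.ne_top (Ideal.eq_top_of_isUnit_mem _ h (IsUnit.map _
        (isUnit_iff_ne_zero.mpr fun h0 => hx (Ideal.algebraMap_residueField_eq_zero.mp h0))))
    · rw [Ideal.algebraMap_residueField_eq_zero.mpr hx, map_zero]
      exact M.zero_mem
  · rintro ⟨Q, hQ, hQP, haQ⟩ hu
    let ψ : K →ₐ[A] Q.ResidueField :=
      Ideal.ResidueField.mapₐ P Q (Algebra.ofId A C) hQP.symm
    let π : K ⊗[A] C →ₐ[A] Q.ResidueField :=
      Algebra.TensorProduct.lift ψ (IsScalarTower.toAlgHom A C Q.ResidueField)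
        (fun _ _ => Commute.all _ _)
    refine (hu.map π).ne_zero ?_
    simp only [π, Algebra.TensorProduct.lift_tmul, map_one, one_mul, IsScalarTower.coe_toAlgHom']
    exact Ideal.algebraMap_residueField_eq_zero.mpr haQ

end GrpdLib.Frame
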