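/-
Flat base change of a finite locally free equivalence relation.
-/
import Groth.Agent.GrpdLib.Invariant
import Mathlib.RingTheory.Flat.Basic
import Mathlib.LinearAlgebra.TensorProduct.RightExactness

set_option autoImplicit false

universe u v w

open TensorProduct

namespace GrpdLib

theorem Frame.finite {R : Type u} [CommRing R] {M : Type v} [AddCommGroup M] [Module R M] {n : ℕ}
    (F : Frame R M n) : Module.Finite R M ∧ Module.Projective R M := by
  let T : (Fin n → R) →ₗ[R] M := Fintype.linearCombination R F.vec
  have h : T ∘ₗ LinearMap.pi F.dual = LinearMap.id := LinearMap.ext fun x => by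
    simpa [T, Fintype.linearCombination_apply] using F.sum_eq x
  exact ⟨Module.Finite.of_surjective T fun x => ⟨_, LinearMap.congr_fun h x⟩,
    Module.Projective.of_split _ T h⟩

theorem tmul_one_mul' {R : Type u} [CommRing R] {S : Type v} [CommRing S] [Algebra R S]
    (x : S) (z : S ⊗[R] S) : (x ⊗ₜ[R] (1 : S)) * z = x • z := by
  induction z with
  | zero => simp
  | tmul a b => rw [Algebra.TensorProduct.tmul_mul_tmul, one_mul, TensorProduct.smul_tmul']; rfl
  | add p q hp hq => rw [mul_add, smul_add, hp, hq]

namespace Grd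

variable {A : Type u} [CommRing A] {C : Type v} [CommRing C] [Algebra A C] (E : Grd A C)

/-- `s` as a map of algebras over the invariants. -/
abbrev sHom : A →ₐ[E.inv] C := IsScalarTower.toAlgHom E.inv A C

/-- `t` as a map of algebras over the invariants. -/
def tHom : A →ₐ[E.inv] C :=
  { E.t with commutes' := fun b => (E.mem_inv.1 b.2).symm }

theorem tHom_apply (a : A) : E.tHom a = E.t a := rfl

/-- `e` as a map of algebras over the invariants. -/
def eHom : C →ₐ[E.inv] A :=
  { E.e with commutes' := fun b => E.e_s (b : A) }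

variable (B' : Type w) [CommRing B'] [Algebra E.inv B']

/-- The new points. -/
abbrev A' : Type _ := B' ⊗[E.inv] A

/-- The new arrows. -/
abbrev C' : Type _ := B' ⊗[E.inv] C

noncomputable instance algebraC' : Algebra (E.A' B') (E.C' B') :=
  (Algebra.TensorProduct.map (AlgHom.id B' B') E.sHom).toRingHom.toAlgebra

theorem algebraMap_tmul (b : B') (a : A) :
    algebraMap (E.A' B') (E.C' B') (b ⊗ₜ a) = b ⊗ₜ algebraMap A C a := rfl

/-- Inclusion of the old pairs in the new. -/
noncomputable def κ : C ⊗[A] C →+* E.C' B' ⊗[E.A' B'] E.C' B' := by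
  let ι : C →+* E.C' B' := (Algebra.TensorProduct.includeRight : C →ₐ[E.inv] E.C' B').toRingHom
  let _ : Algebra A (E.C' B' ⊗[E.A' B'] E.C' B') :=
    ((algebraMap (E.A' B') (E.C' B' ⊗[E.A' B'] E.C' B')).comp
      (Algebra.TensorProduct.includeRight : A →ₐ[E.inv] E.A' B').toRingHom).toAlgebra
  refine (Algebra.TensorProduct.lift (R := A) (S := A) (A := C) (B := C)
    (C := E.C' B' ⊗[E.A' B'] E.C' B')
    { ((Algebra.TensorProduct.includeLeftRingHom : E.C' B' →+* E.C' B' ⊗[E.A' B'] E.C' B').comp ι) with
      commutes' := fun a => ?_ }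
    { ((Algebra.TensorProduct.includeRight : E.C' B' →ₐ[E.A' B'] _).toRingHom.comp ι) with
      commutes' := fun a => ?_ }
    (fun _ _ => Commute.all _ _)).toRingHom
  · rfl
  · show Algebra.TensorProduct.includeRight (algebraMap (E.A' B') (E.C' B') (1 ⊗ₜ a)) = _
    exact (Algebra.TensorProduct.includeRight : E.C' B' →ₐ[E.A' B'] _).commutes _

theorem κ_tmul (x y : C) : E.κ B' (x ⊗ₜ y) = ((1 : B') ⊗ₜ x) ⊗ₜ ((1 : B') ⊗ₜ y) := by
  show (((1 : B') ⊗ₜ x : E.C' B') ⊗ₜ[E.A' B'] (1 : E.C' B')) *
    ((1 : E.C' B') ⊗ₜ[E.A' B'] ((1 : B') ⊗ₜ y : E.C' B')) = _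
  rw [Algebra.TensorProduct.tmul_mul_tmul, mul_one, one_mul]

/-- The projection of composable pairs after base change. -/
noncomputable def p' : E.C' B' →+* E.C' B' ⊗[E.A' B'] E.C' B' := by
  let l : B' →+* E.C' B' ⊗[E.A' B'] E.C' B' :=
    (algebraMap (E.A' B') _).comp Algebra.TensorProduct.includeLeftRingHom
  let _ : Algebra E.inv (E.C' B' ⊗[E.A' B'] E.C' B') := (l.comp (algebraMap E.inv B')).toAlgebra
  refine (Algebra.TensorProduct.lift (R := E.inv) (S := E.inv) (A := B') (B := C)
    (C := E.C' B' ⊗[E.A' B'] E.C' B')
    { l with commutes' := fun b => rfl }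
    { (E.κ B').comp E.p with commutes' := fun b => ?_ } (fun _ _ => Commute.all _ _)).toRingHom
  show E.κ B' (E.p (algebraMap A C b)) =
    algebraMap (E.A' B') _ ((algebraMap E.inv B' b) ⊗ₜ (1 : A))
  rw [E.p_s, E.κ_tmul, Algebra.TensorProduct.algebraMap_apply]
  congr 1
  rw [E.algebraMap_tmul, map_one, ← E.mem_inv.1 b.2, Algebra.algebraMap_eq_smul_one (A := B'),
    TensorProduct.smul_tmul, ← Algebra.algebraMap_eq_smul_one]
  rfl

theorem p'_tmul (b : B') (y : C) :
    E.p' B' (b ⊗ₜ y) = ((b ⊗ₜ (1 : C) : E.C' B') ⊗ₜ (1 : E.C' B')) * E.κ B' (E.p y) := by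
  simp [p', Algebra.TensorProduct.algebraMap_apply, E.algebraMap_tmul]

/-- `b ⊗ y ↦ b ⊗ ψ (1 ⊗ y)`. -/
noncomputable def χ (ψ : C ⊗[A] C →ₗ[C] C) : E.C' B' →ₗ[E.A' B'] E.C' B' where
  toFun := LinearMap.lTensor B'
    { toFun := fun y => ψ ((1 : C) ⊗ₜ y)
      map_add' := fun x y => by rw [tmul_add, map_add]
      map_smul' := fun b y => by
        rw [RingHom.id_apply, ← IsScalarTower.algebraMap_smul A b y,
          ← TensorProduct.smul_tmul, Algebra.smul_def, ← smul_eq_mul,
          ← TensorProduct.smul_tmul', map_smul, smul_eq_mul, ← Algebra.smul_def,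
          IsScalarTower.algebraMap_smul] }
  map_add' := map_add _
  map_smul' z w := by
    rw [RingHom.id_apply]
    induction z using TensorProduct.induction_on with
    | zero => simp
    | tmul b a =>
      induction w using TensorProduct.induction_on with
      | zero => simp
      | tmul b' y =>
        rw [Algebra.smul_def, Algebra.smul_def, E.algebraMap_tmul,
          Algebra.TensorProduct.tmul_mul_tmul]
        simp only [LinearMap.lTensor_tmul, LinearMap.coe_mk, AddHom.coe_mk,
          Algebra.TensorProduct.tmul_mul_tmul]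
        congr 1
        rw [← Algebra.smul_def, ← TensorProduct.smul_tmul, Algebra.smul_def, ← smul_eq_mul,
          ← TensorProduct.smul_tmul', map_smul, smul_eq_mul]
      | add p q hp hq => simp only [smul_add, map_add, hp, hq]
    | add p q hp hq => simp only [add_smul, map_add, hp, hq]

theorem χ_tmul (ψ : C ⊗[A] C →ₗ[C] C) (b : B') (y : C) :
    E.χ B' ψ (b ⊗ₜ y) = b ⊗ₜ ψ ((1 : C) ⊗ₜ y) := rfl

theorem κ_liftχ (ψ : C ⊗[A] C →ₗ[C] C) (d : C ⊗[A] C) :
    (E.χ B' ψ).liftBaseChange (E.C' B') (E.κ B' d) = (1 : B') ⊗ₜ ψ d := by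
  induction d using TensorProduct.induction_on with
  | zero => simp
  | tmul x y =>
    rw [E.κ_tmul, LinearMap.liftBaseChange_tmul, E.χ_tmul, smul_eq_mul,
      Algebra.TensorProduct.tmul_mul_tmul, mul_one, ← smul_eq_mul, ← map_smul,
      TensorProduct.smul_tmul', smul_eq_mul, mul_one]
  | add p q hp hq => simp only [map_add, tmul_add, hp, hq]

variable {n : ℕ} (F : Frame A C n)

/-- The base-changed frame. -/
noncomputable def frame' : Frame (E.A' B') (E.C' B') n where
  vec i := 1 ⊗ₜ F.vec i
  dual i :=
    { toFun := LinearMap.lTensor B' ((F.dual i).restrictScalars E.inv)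
      map_add' := map_add _
      map_smul' := fun z w => by
        rw [RingHom.id_apply]
        induction z using TensorProduct.induction_on with
        | zero => simp
        | tmul b a =>
          induction w using TensorProduct.induction_on with
          | zero => simp
          | tmul b' y =>
            rw [Algebra.smul_def, E.algebraMap_tmul, Algebra.TensorProduct.tmul_mul_tmul]
            simp only [LinearMap.lTensor_tmul, LinearMap.coe_restrictScalars, smul_eq_mul,
              Algebra.TensorProduct.tmul_mul_tmul]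
            rw [← Algebra.smul_def, map_smul, smul_eq_mul]
          | add p q hp hq => simp only [smul_add, map_add, hp, hq]
        | add p q hp hq => simp only [add_smul, map_add, hp, hq] }
  sum_eq z := by
    induction z using TensorProduct.induction_on with
    | zero => simp
    | tmul b y =>
      conv_rhs => rw [← F.sum_eq y, TensorProduct.tmul_sum]
      refine Finset.sum_congr rfl fun i _ => ?_
      simp only [LinearMap.coe_mk, AddHom.coe_mk, LinearMap.lTensor_tmul,
        LinearMap.coe_restrictScalars]
      rw [Algebra.smul_def, E.algebraMap_tmul, Algebra.TensorProduct.tmul_mul_tmul, mul_one,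
        ← Algebra.smul_def]
    | add p q hp hq => simp only [map_add, add_smul, Finset.sum_add_distrib, hp, hq]

/-- The base change of the relation along the invariants. -/
noncomputable def baseChange [Module.Finite A C] [Module.Projective A C] : Grd (E.A' B') (E.C' B') where
  t := (Algebra.TensorProduct.map (AlgHom.id B' B') E.tHom).toRingHom
  e := (Algebra.TensorProduct.map (AlgHom.id B' B') E.eHom).toRingHom
  p := E.p' B'
  e_s z := by
    induction z using TensorProduct.induction_on with
    | zero => simp
    | tmul b a =>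
      rw [E.algebraMap_tmul]
      show b ⊗ₜ E.e (algebraMap A C a) = _
      rw [E.e_s]
    | add p q hp hq => simp only [map_add, hp, hq]
  e_t z := by
    induction z using TensorProduct.induction_on with
    | zero => simp
    | tmul b a =>
      show b ⊗ₜ E.e (E.t a) = _
      rw [E.e_t]
    | add p q hp hq => simp only [map_add, hp, hq]
  p_s z := by
    induction z using TensorProduct.induction_on with
    | zero => simp
    | tmul b a =>
      rw [E.algebraMap_tmul, E.p'_tmul, E.p_s, E.κ_tmul, Algebra.TensorProduct.tmul_mul_tmul,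
        Algebra.TensorProduct.tmul_mul_tmul]
      simp [tHom, ← Algebra.TensorProduct.one_def] <;> rfl
    | add p q hp hq => simp only [map_add, add_tmul, hp, hq]
  p_t z := by
    induction z using TensorProduct.induction_on with
    | zero => simp
    | tmul b a =>
      have h : ((b ⊗ₜ (1 : C) : E.C' B') ⊗ₜ[E.A' B'] (1 : E.C' B')) =
          (1 : E.C' B') ⊗ₜ[E.A' B'] (b ⊗ₜ (1 : C) : E.C' B') := by
        have h1 : (b ⊗ₜ (1 : C) : E.C' B') = algebraMap (E.A' B') (E.C' B') (b ⊗ₜ (1 : A)) := by
          rw [E.algebraMap_tmul, map_one]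
        rw [h1, Algebra.algebraMap_eq_smul_one, ← TensorProduct.smul_tmul]
      show E.p' B' (b ⊗ₜ E.t a) = _
      rw [E.p'_tmul, E.p_t, E.κ_tmul, h, Algebra.TensorProduct.tmul_mul_tmul,
        Algebra.TensorProduct.tmul_mul_tmul]
      simp [tHom, ← Algebra.TensorProduct.one_def] <;> rfl
    | add p q hp hq => simp only [map_add, tmul_add, hp, hq]
  p_span := by
    have key : ∀ d : C ⊗[A] C, E.κ B' d ∈ Submodule.span (E.C' B') (Set.range (E.p' B')) := by
      intro d
      have hd : d ∈ Submodule.span C (Set.range E.p) := E.p_span.ge trivial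
      induction hd using Submodule.span_induction with
      | mem d hd =>
        obtain ⟨y, rfl⟩ := hd
        refine Submodule.subset_span ⟨1 ⊗ₜ y, ?_⟩
        rw [E.p'_tmul, ← Algebra.TensorProduct.one_def, ← Algebra.TensorProduct.one_def, one_mul]
      | zero => simp
      | add p q _ _ hp hq => rw [map_add]; exact add_mem hp hq
      | smul c d _ hd =>
        have : ∀ d, E.κ B' (c • d) = ((1 : B') ⊗ₜ c : E.C' B') • E.κ B' d := by
          intro d
          induction d using TensorProduct.induction_on with
          | zero => simp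
          | tmul x y =>
            rw [TensorProduct.smul_tmul', E.κ_tmul, E.κ_tmul, TensorProduct.smul_tmul',
              smul_eq_mul, smul_eq_mul, Algebra.TensorProduct.tmul_mul_tmul, mul_one]
          | add p q hp hq => simp only [smul_add, map_add, hp, hq]
        rw [this d]
        exact Submodule.smul_mem _ _ hd
    rw [eq_top_iff]
    rintro z -
    induction z using TensorProduct.induction_on with
    | zero => simp
    | tmul u v =>
      rw [show u ⊗ₜ[E.A' B'] v = u • ((1 : E.C' B') ⊗ₜ v) by
        rw [TensorProduct.smul_tmul', smul_eq_mul, mul_one]]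
      refine Submodule.smul_mem _ _ ?_
      induction v using TensorProduct.induction_on with
      | zero => simp
      | tmul b y =>
        have h1 : (b ⊗ₜ (1 : C) : E.C' B') = algebraMap (E.A' B') (E.C' B') (b ⊗ₜ (1 : A)) := by
          rw [E.algebraMap_tmul, map_one]
        have h2 : ((1 : E.C' B') ⊗ₜ[E.A' B'] (b ⊗ₜ y : E.C' B')) =
            (b ⊗ₜ (1 : C) : E.C' B') • E.κ B' ((1 : C) ⊗ₜ y) := by
          rw [E.κ_tmul, TensorProduct.smul_tmul', h1, smul_eq_mul, ← Algebra.TensorProduct.one_def,
            mul_one, Algebra.algebraMap_eq_smul_one, TensorProduct.smul_tmul, Algebra.smul_def,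
            E.algebraMap_tmul, map_one, Algebra.TensorProduct.tmul_mul_tmul, mul_one, one_mul]
        rw [h2]
        exact Submodule.smul_mem _ _ (key _)
      | add p q hp hq => rw [tmul_add]; exact add_mem hp hq
    | add p q hp hq => exact add_mem hp hq
  p_dual φ := by
    obtain ⟨n, ⟨F⟩⟩ := exists_frame A C
    choose ψ hψ using fun i => E.p_dual (F.dual i)
    let T := (Algebra.TensorProduct.map (AlgHom.id B' B') E.tHom).toRingHom
    refine ⟨∑ i, T (φ (1 ⊗ₜ F.vec i)) • (E.χ B' (ψ i)).liftBaseChange (E.C' B'), fun z => ?_⟩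
    have hz : φ z = ∑ i, (E.frame' B' F).dual i z * φ (1 ⊗ₜ F.vec i) := by
      conv_lhs => rw [← (E.frame' B' F).sum_eq z, map_sum]
      exact Finset.sum_congr rfl fun i _ => by rw [map_smul, smul_eq_mul]; rfl
    rw [hz, map_sum, LinearMap.sum_apply]
    refine Finset.sum_congr rfl fun i _ => ?_
    rw [LinearMap.smul_apply, map_mul, mul_comm, smul_eq_mul]
    congr 1
    clear hz
    induction z using TensorProduct.induction_on with
    | zero => simp
    | tmul b y =>
      rw [E.p'_tmul]
      rw [tmul_one_mul', map_smul, E.κ_liftχ, hψ, smul_eq_mul, Algebra.TensorProduct.tmul_mul_tmul, mul_one, one_mul]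
      rfl
    | add p q hp hq => simp only [map_add, hp, hq]

theorem mem_inv_baseChange_of [Module.Finite A C] [Module.Projective A C] (b : B') : (b ⊗ₜ (1 : A) : E.A' B') ∈ (E.baseChange B').inv := by
  rw [mem_inv]
  show algebraMap (E.A' B') (E.C' B') (b ⊗ₜ 1) = b ⊗ₜ E.t 1
  rw [E.algebraMap_tmul, map_one, map_one]

/-- The invariants commute with flat base change. -/
noncomputable def invEquiv [Module.Flat E.inv B'] [Module.Finite A C] [Module.Projective A C] : B' ≃+* (E.baseChange B').inv :=
  RingEquiv.ofBijective
    (Algebra.TensorProduct.includeLeftRingHom.codRestrict _ (E.mem_inv_baseChange_of B')) (by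
    let d : A →ₗ[E.inv] C := E.sHom.toLinearMap - E.tHom.toLinearMap
    have hex : Function.Exact (Algebra.linearMap E.inv A) d := by
      intro a
      simp only [d, LinearMap.sub_apply, AlgHom.toLinearMap_apply, sub_eq_zero]
      exact ⟨fun h => ⟨⟨a, E.mem_inv.2 h⟩, rfl⟩, fun ⟨b, hb⟩ => hb ▸ E.mem_inv.1 b.2⟩
    constructor
    · intro x y h
      have h1 := congrArg Subtype.val h
      apply (TensorProduct.rid E.inv B').symm.injective
      apply Module.Flat.lTensor_preserves_injective_linearMap (M := B') (Algebra.linearMap E.inv A)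
        Subtype.val_injective
      simp only [TensorProduct.rid_symm_apply, LinearMap.lTensor_tmul, Algebra.linearMap_apply,
        map_one]
      exact h1
    · rintro ⟨z, hz⟩
      have h0 : d.lTensor B' z = 0 := by
        rw [LinearMap.lTensor_sub, LinearMap.sub_apply, sub_eq_zero]
        exact hz
      obtain ⟨w, hw⟩ := (Module.Flat.lTensor_exact B' hex z).mp h0
      refine ⟨TensorProduct.rid E.inv B' w, Subtype.ext ?_⟩
      show (TensorProduct.rid E.inv B' w) ⊗ₜ (1 : A) = z
      rw [← hw]
      clear hw
      induction w using TensorProduct.induction_on with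
      | zero => simp
      | tmul b r =>
        simp [TensorProduct.smul_tmul, Algebra.algebraMap_eq_smul_one]
      | add p q hp hq => simp only [map_add, add_tmul, hp, hq])

end Grd

namespace EqvRel

variable {A : Type u} [CommRing A] {C : Type v} [CommRing C] [Algebra A C] (E : EqvRel A C)
  (B' : Type w) [CommRing B'] [Algebra E.inv B']

/-- The base change of an equivalence relation along the invariants. -/
noncomputable abbrev baseChange [Module.Finite A C] [Module.Projective A C] :
    EqvRel (E.A' B') (E.C' B') where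
  toGrd := E.toGrd.baseChange B'
  t_span := by
    rw [eq_top_iff]
    rintro z -
    induction z using TensorProduct.induction_on with
    | zero => simp
    | tmul b y =>
      have hy : y ∈ Submodule.span A (Set.range E.t) := E.t_span.ge trivial
      induction hy using Submodule.span_induction with
      | mem y hy =>
        obtain ⟨a, rfl⟩ := hy
        exact Submodule.subset_span ⟨b ⊗ₜ a, rfl⟩
      | zero => simp
      | add p q _ _ hp hq => rw [tmul_add]; exact add_mem hp hq
      | smul a y _ hy =>
        have : b ⊗ₜ[E.inv] (a • y) = ((1 : B') ⊗ₜ a : E.A' B') • (b ⊗ₜ[E.inv] y) := by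
          rw [Algebra.smul_def ((1 : B') ⊗ₜ a : E.A' B'), E.algebraMap_tmul,
            Algebra.TensorProduct.tmul_mul_tmul, one_mul, Algebra.smul_def]
        rw [this]
        exact Submodule.smul_mem _ _ hy
    | add p q hp hq => exact add_mem hp hq

end EqvRel

end GrpdLib
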