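/-
The quotient when the ring of invariants is local with infinite residue field.
-/
import Groth.Agent.GrpdLib.Orbit
import Mathlib.RingTheory.LocalRing.Module
import Mathlib.RingTheory.LocalRing.ResidueField.Basic
import Mathlib.Algebra.MvPolynomial.Funext
import Mathlib.RingTheory.Nakayama
import Mathlib.LinearAlgebra.TensorProduct.Quotient

set_option autoImplicit false

universe u v w

open TensorProduct

namespace GrpdLib.EqvRel

variable {A : Type u} [CommRing A] {C : Type v} [CommRing C] [Algebra A C] (E : EqvRel A C)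

/-- A nonzero polynomial over an extension field has a nonvanishing point over an infinite
subfield, simultaneously for finitely many extensions. -/
theorem exists_eval_ne_zero {k : Type*} [Field k] [Infinite k] {σ : Type*} {ι : Type*} [Fintype ι]
    (K : ι → Type*) [∀ i, Field (K i)] [∀ i, Algebra k (K i)]
    (D : ∀ i, MvPolynomial σ (K i)) (hD : ∀ i, D i ≠ 0) :
    ∃ c : σ → k, ∀ i, MvPolynomial.eval (fun l => algebraMap k (K i) (c l)) (D i) ≠ 0 := by
  classical
  have : ∀ i, ∃ D' : MvPolynomial σ k, D' ≠ 0 ∧ ∀ c : σ → k,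
      MvPolynomial.eval (fun l => algebraMap k (K i) (c l)) (D i) = 0 → MvPolynomial.eval c D' = 0 := by
    intro i
    obtain ⟨m, hm⟩ := MvPolynomial.ne_zero_iff.mp (hD i)
    obtain ⟨φ, hφ⟩ := Module.Projective.exists_dual_ne_zero k hm
    refine ⟨∑ d ∈ (D i).support, MvPolynomial.monomial d (φ ((D i).coeff d)), ?_, ?_⟩
    · refine MvPolynomial.ne_zero_iff.mpr ⟨m, ?_⟩
      simp only [MvPolynomial.coeff_sum, MvPolynomial.coeff_monomial, Finset.sum_ite_eq']
      rw [if_pos (MvPolynomial.mem_support_iff.mpr hm)]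
      exact hφ
    · intro c hc
      rw [MvPolynomial.eval_eq] at hc
      rw [map_sum]
      have := congrArg φ hc
      rw [map_sum, map_zero] at this
      rw [← this]
      refine Finset.sum_congr rfl fun d _ => ?_
      rw [MvPolynomial.eval_monomial]
      simp only [← map_pow, ← map_prod]
      rw [mul_comm ((D i).coeff d), ← Algebra.smul_def, map_smul, smul_eq_mul, Finsupp.prod, mul_comm]
  choose D' hD' hev using this
  have hne : ∏ i, D' i ≠ 0 := Finset.prod_ne_zero_iff.mpr fun i _ => hD' i
  obtain ⟨c, hc⟩ : ∃ c : σ → k, MvPolynomial.eval c (∏ i, D' i) ≠ 0 := by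
    by_contra h
    push Not at h
    exact hne (MvPolynomial.funext fun x => by rw [h x, map_zero])
  refine ⟨c, fun i h0 => ?_⟩
  rw [map_prod] at hc
  exact Finset.prod_ne_zero_iff.mp hc i (Finset.mem_univ _) (hev i c h0)

theorem finite_maximalSpectrum [Module.Finite A C] [Module.Projective A C] [Nontrivial A]
    [IsLocalRing E.inv] : Finite (MaximalSpectrum A) := by
  have : Algebra.IsIntegral E.inv A := ⟨E.isIntegral⟩
  obtain ⟨P, hP⟩ := Ideal.exists_maximal A
  have hc : ∀ Q : Ideal A, Q.IsMaximal → Q.comap E.inv.subtype = IsLocalRing.maximalIdeal E.inv :=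
    fun Q hQ => IsLocalRing.eq_maximalIdeal (Ideal.isMaximal_comap_of_isIntegral_of_isMaximal Q)
  have hf : (E.orbit P).Finite := E.finite_orbit P
  have := hf.to_subtype
  exact Finite.of_injective (fun Q : MaximalSpectrum A => (⟨Q.1, by
    have := Q.2
    exact E.mem_orbit_of_comap_eq P Q.1 (by rw [hc P hP, hc Q.1 Q.2])⟩ : E.orbit P))
    (fun Q Q' h => MaximalSpectrum.ext (congrArg Subtype.val h))

/-- Evaluating the generic coefficient matrix. -/
theorem eval_genMatrix {K : Type*} [CommRing K] (φ : A →+* K) {r : ℕ} {G : Type*} [Fintype G]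
    (N : Fin r → G → A) (d : Fin r × G → K) (i j : Fin r) :
    MvPolynomial.eval d (∑ x : G, MvPolynomial.C (φ (N i x)) * MvPolynomial.X (j, x)) =
      ∑ x : G, φ (N i x) * d (j, x) := by
  simp [map_sum]

include E in
/-- The rank of the source map is constant. -/
theorem exists_rank [Module.Finite A C] [Module.Projective A C] [Nontrivial A]
    [IsLocalRing E.inv] : ∃ r, ∀ P : MaximalSpectrum A,
      Module.finrank (A ⧸ P.1) ((A ⧸ P.1) ⊗[A] C) = r := by
  obtain ⟨n, ⟨F⟩⟩ := exists_frame A C
  have : Algebra.IsIntegral E.inv A := ⟨E.isIntegral⟩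
  set R1 := F.rev (E.mulT 1) with hR1
  have hlift : R1 ∈ Polynomial.lifts E.inv.subtype :=
    (Polynomial.lifts_iff_coeff_lifts _).mpr fun k => ⟨⟨_, E.coeff_rev_mem F 1 k⟩, rfl⟩
  obtain ⟨Q1, hQ1⟩ := (Polynomial.mem_lifts _).mp hlift
  refine ⟨(Q1.map (IsLocalRing.residue E.inv)).natDegree, fun P => ?_⟩
  let _ := Ideal.Quotient.field P.1
  have hPm : P.1.comap E.inv.subtype = IsLocalRing.maximalIdeal E.inv :=
    IsLocalRing.eq_maximalIdeal (@Ideal.isMaximal_comap_of_isIntegral_of_isMaximal
      _ _ _ _ _ _ P.1 P.2)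
  let ψ : IsLocalRing.ResidueField E.inv →+* A ⧸ P.1 :=
    Ideal.quotientMap P.1 E.inv.subtype hPm.ge
  let b := Module.finBasis (A ⧸ P.1) ((A ⧸ P.1) ⊗[A] C)
  have h1 : R1.map (algebraMap A (A ⧸ P.1)) =
      (1 - Polynomial.X) ^ Module.finrank (A ⧸ P.1) ((A ⧸ P.1) ⊗[A] C) := by
    rw [hR1, ← Frame.rev_baseChange, Frame.rev_eq _ (Frame.ofBasis b),
      ← Frame.rev_id_ofBasis b]
    congr 1
    refine TensorProduct.AlgebraTensorModule.curry_injective (LinearMap.ext fun x =>
      LinearMap.ext fun c => ?_)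
    simp [Grd.mulT]
  rw [← hQ1, Polynomial.map_map,
    show (algebraMap A (A ⧸ P.1)).comp E.inv.subtype = ψ.comp (IsLocalRing.residue E.inv) from
      RingHom.ext fun x => rfl, ← Polynomial.map_map] at h1
  have h2 := congrArg Polynomial.natDegree h1
  rw [Polynomial.natDegree_map_eq_of_injective ψ.injective] at h2
  have h3 : ((1 : Polynomial (A ⧸ P.1)) - Polynomial.X).natDegree = 1 := by
    rw [← neg_sub, Polynomial.natDegree_neg, ← map_one Polynomial.C, Polynomial.natDegree_X_sub_C]
  rw [h2, Polynomial.natDegree_pow, h3, mul_one]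

/-- A basis of `C` made of targets. -/
theorem exists_target_basis [Module.Finite A C] [Module.Projective A C] [Nontrivial A]
    [IsLocalRing E.inv] [Infinite (IsLocalRing.ResidueField E.inv)] :
    ∃ (r : ℕ) (f : Fin r → A) (b : Module.Basis (Fin r) A C), ∀ j, b j = E.t (f j) := by
  classical
  have : Algebra.IsIntegral E.inv A := ⟨E.isIntegral⟩
  have := E.finite_maximalSpectrum
  have := Fintype.ofFinite (MaximalSpectrum A)
  obtain ⟨r, hr⟩ := E.exists_rank
  obtain ⟨b0⟩ := Module.nonempty_basis_of_flat_of_finrank_eq A C r hr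
  -- finitely many generators among targets
  obtain ⟨G, hGsub, hG⟩ := (Submodule.fg_span_iff_fg_span_finset_subset _).mp
    ((congrArg Submodule.FG E.t_span).mpr Module.Finite.fg_top)
  choose g hg using fun x : G => hGsub x.2
  let k0 := IsLocalRing.ResidueField E.inv
  let K : MaximalSpectrum A → Type u := fun P => A ⧸ P.1
  let _ : ∀ P, Field (K P) := fun P => Ideal.Quotient.field P.1
  have hPm : ∀ P : MaximalSpectrum A, P.1.comap E.inv.subtype = IsLocalRing.maximalIdeal E.inv :=
    fun P => IsLocalRing.eq_maximalIdeal (@Ideal.isMaximal_comap_of_isIntegral_of_isMaximal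
      _ _ _ _ _ _ P.1 P.2)
  let _ : ∀ P, Algebra k0 (K P) := fun P =>
    (Ideal.quotientMap P.1 E.inv.subtype (hPm P).ge).toAlgebra
  -- coordinates
  let co : ∀ P : MaximalSpectrum A, G → Fin r → K P := fun P x i =>
    algebraMap A (K P) (b0.coord i (E.t (g x)))
  let M : ∀ P : MaximalSpectrum A, Matrix (Fin r) (Fin r) (MvPolynomial (Fin r × G) (K P)) :=
    fun P => Matrix.of fun i j => ∑ x : G, MvPolynomial.C (co P x i) * MvPolynomial.X (j, x)
  have hD : ∀ P, (M P).det ≠ 0 := by
    intro P h0
    have hb : ∀ j : Fin r, ∃ c : G → A, b0 j = ∑ x, c x • E.t (g x) := by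
      intro j
      have hj : b0 j ∈ Submodule.span A (G : Set C) := by rw [← hG, E.t_span]; trivial
      obtain ⟨c, -, hc⟩ := Submodule.mem_span_finset.mp hj
      refine ⟨fun x => c x.1, ?_⟩
      simp only [hg]
      rw [← hc, ← Finset.sum_coe_sort G]
    choose c hc using hb
    have h1 := congrArg (MvPolynomial.eval fun p : Fin r × G => algebraMap A (K P) (c p.1 p.2)) h0
    rw [map_zero, RingHom.map_det, show (MvPolynomial.eval fun p : Fin r × G =>
      algebraMap A (K P) (c p.1 p.2)).mapMatrix (M P) = 1 by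
        ext i j
        simp only [M, co, RingHom.mapMatrix_apply, Matrix.map_apply, Matrix.of_apply]
        rw [eval_genMatrix (algebraMap A (K P)) (fun i x => b0.coord i (E.t (g x)))]
        simp only [← map_mul, ← map_sum]
        rw [show ∑ x : G, (b0.coord i) (E.t (g x)) * c j x = b0.coord i (b0 j) by
          rw [hc j, map_sum]
          exact Finset.sum_congr rfl fun x _ => by rw [map_smul, smul_eq_mul, mul_comm]]
        by_cases h : i = j <;> simp [h, Matrix.one_apply],
      Matrix.det_one] at h1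
    exact one_ne_zero h1
  obtain ⟨c, hc⟩ := exists_eval_ne_zero (k := k0) K (fun P => (M P).det) hD
  choose c' hc' using fun p => IsLocalRing.residue_surjective (c p)
  let f : Fin r → A := fun j => ∑ x : G, (c' (j, x) : A) * g x
  let T : (Fin r → A) →ₗ[A] C := Fintype.linearCombination A fun j => E.t (f j)
  let N : Matrix (Fin r) (Fin r) A := Matrix.of fun i j => b0.coord i (E.t (f j))
  have hN : IsUnit N.det := by
    by_contra hnu
    obtain ⟨J, hJ, hJN⟩ := exists_max_ideal_of_mem_nonunits (a := N.det) hnu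
    apply hc ⟨J, hJ⟩
    have h0 : algebraMap A (K ⟨J, hJ⟩) N.det = 0 := Ideal.Quotient.eq_zero_iff_mem.mpr hJN
    rw [RingHom.map_det] at h0 ⊢
    rw [← h0]
    congr 1
    ext i j
    simp only [M, co, N, f, RingHom.mapMatrix_apply, Matrix.map_apply, Matrix.of_apply]
    rw [eval_genMatrix (algebraMap A (K ⟨J, hJ⟩)) (fun i x => b0.coord i (E.t (g x)))]
    simp only [map_sum, map_mul]
    refine Finset.sum_congr rfl fun x _ => ?_
    rw [← E.mem_inv.1 (c' (j, x)).2, ← Algebra.smul_def ((c' (j, x) : A)) (E.t (g x)), map_smul, smul_eq_mul, map_mul, ← hc' (j, x),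
      mul_comm]
    rfl
  let e : (Fin r → A) ≃ₗ[A] C :=
    (Matrix.toLinearEquiv' N (Matrix.invertibleOfIsUnitDet N hN)).trans b0.equivFun.symm
  refine ⟨r, f, Module.Basis.ofEquivFun e.symm, fun j => ?_⟩
  rw [Module.Basis.coe_ofEquivFun]
  show e (Pi.single j 1) = _
  apply b0.equivFun.injective
  ext i
  rw [show e (Pi.single j 1) = b0.equivFun.symm
    (Matrix.toLinearEquiv' N (Matrix.invertibleOfIsUnitDet N hN) (Pi.single j 1)) from rfl,
    LinearEquiv.apply_symm_apply]
  show Matrix.toLin' N (Pi.single j 1) i = _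
  simp [N, Matrix.toLin'_apply, Matrix.mulVec_single]

/-- The targets of that basis form a basis over the invariants. -/
theorem exists_basis_inv [Module.Finite A C] [Module.Projective A C] [Nontrivial A]
    [IsLocalRing E.inv] [Infinite (IsLocalRing.ResidueField E.inv)] :
    ∃ (r : ℕ) (b : Module.Basis (Fin r) E.inv A) (b' : Module.Basis (Fin r) A C),
      ∀ j, b' j = E.t (b j) := by
  obtain ⟨r, f, bT, hbT⟩ := E.exists_target_basis
  obtain ⟨G, hG1, hG2⟩ := E.exists_pFrame (Frame.ofBasis bT)
  let F' := (Frame.ofBasis bT).baseChange (S := C)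
  have hdual : ∀ i, G.dual i = F'.dual i := by
    intro i
    refine LinearMap.ext fun z => ?_
    rw [← F'.sum_eq z, map_sum, map_sum]
    refine Finset.sum_congr rfl fun j _ => ?_
    rw [map_smul (G.dual i), map_smul (F'.dual i)]
    congr 1
    have hv : F'.vec j = G.vec j := by
      rw [hG1]; simp [F', Frame.baseChange, Frame.ofBasis, hbT, E.p_t]
    conv_lhs => rw [hv, hG1, hG2]
    by_cases h : i = j <;>
      simp [F', Frame.baseChange, Frame.ofBasis, h]
  have hinv : ∀ a i, bT.coord i (E.t a) ∈ E.inv := by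
    intro a i
    rw [E.mem_inv]
    have h1 := hG2 i (E.t a)
    rw [hdual, E.p_t] at h1
    simpa [F', Frame.baseChange, Frame.ofBasis, Algebra.algebraMap_eq_smul_one] using h1
  have hrec : ∀ a, a = ∑ j, bT.coord j (E.t a) * f j := by
    intro a
    have := congrArg E.e (bT.sum_repr (E.t a))
    simp only [map_sum, Algebra.smul_def, map_mul, hbT, E.e_s, E.e_t] at this
    exact this.symm
  have hli : LinearIndependent E.inv f := by
    rw [Fintype.linearIndependent_iff]
    intro c hc i
    have h1 : ∑ j, (c j : A) • bT j = 0 := by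
      have := congrArg E.t hc
      simp only [map_sum, Subring.smul_def, smul_eq_mul, map_mul, map_zero] at this
      rw [← this]
      refine Finset.sum_congr rfl fun j _ => ?_
      rw [hbT, Algebra.smul_def, E.mem_inv.1 (c j).2]
    exact Subtype.ext (Fintype.linearIndependent_iff.mp bT.linearIndependent _ h1 i)
  refine ⟨r, Module.Basis.mk hli ?_, bT, fun j => by rw [hbT, Module.Basis.mk_apply]⟩
  intro a _
  rw [hrec a]
  refine Submodule.sum_mem _ fun j _ => ?_
  exact Submodule.smul_mem _ (⟨_, hinv a j⟩ : E.inv) (Submodule.subset_span ⟨j, rfl⟩)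

end GrpdLib.EqvRel
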