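/-
The quotient of an affine scheme by a finite locally free equivalence relation.
-/
import Groth.Agent.GrpdLib.Local
import Groth.Agent.GrpdLib.BaseChange
import Mathlib.RingTheory.Flat.FaithfullyFlat.Basic
import Mathlib.RingTheory.Flat.FaithfullyFlat.Algebra
import Mathlib.RingTheory.Finiteness.Descent
import Mathlib.RingTheory.Finiteness.ModuleFinitePresentation
import Mathlib.RingTheory.Polynomial.Basic

set_option autoImplicit false

universe u v w

open TensorProduct

namespace GrpdLib

section Detect

variable {B : Type u} [CommRing B]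
  (B' : MaximalSpectrum B → Type w) [∀ m, CommRing (B' m)] [∀ m, Algebra B (B' m)]
  [∀ m, Module.Flat B (B' m)] (hB' : ∀ m : MaximalSpectrum B, m.asIdeal.map (algebraMap B (B' m)) ≠ ⊤)
  {M : Type*} {N : Type*} [AddCommGroup M] [Module B M] [AddCommGroup N] [Module B N]

include hB' in
theorem eq_zero_of_tmul (x : M) (h : ∀ m, (1 : B' m) ⊗ₜ[B] x = 0) : x = 0 := by
  by_contra hx
  let J := LinearMap.ker (LinearMap.toSpanSingleton B M x)
  have hJ : J ≠ ⊤ := fun hJ => hx (by
    have : (1 : B) ∈ J := hJ ▸ Submodule.mem_top
    simpa [J] using this)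
  obtain ⟨m, hm, hle⟩ := Ideal.exists_le_maximal J hJ
  let f : (B ⧸ J) →ₗ[B] M := Submodule.liftQ J (LinearMap.toSpanSingleton B M x) le_rfl
  have hf : Function.Injective f := LinearMap.ker_eq_bot.mp
    (Submodule.ker_liftQ_eq_bot' _ _ rfl)
  have h1 : (1 : B' ⟨m, hm⟩) ⊗ₜ[B] (Submodule.Quotient.mk 1 : B ⧸ J) = 0 := by
    apply Module.Flat.lTensor_preserves_injective_linearMap (M := B' ⟨m, hm⟩) f hf
    rw [LinearMap.lTensor_tmul, map_zero]
    show (1 : B' ⟨m, hm⟩) ⊗ₜ[B] (LinearMap.toSpanSingleton B M x 1) = 0
    rw [LinearMap.toSpanSingleton_apply, one_smul, h]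
  have h2 := congrArg (TensorProduct.tensorQuotEquivQuotSMul (B' ⟨m, hm⟩) J) h1
  rw [map_zero] at h2
  change TensorProduct.tensorQuotEquivQuotSMul (B' ⟨m, hm⟩) J
    ((1 : B' ⟨m, hm⟩) ⊗ₜ Ideal.Quotient.mk J 1) = 0 at h2
  rw [TensorProduct.tensorQuotEquivQuotSMul_tmul_mk, one_smul,
    Submodule.Quotient.mk_eq_zero] at h2
  apply hB' ⟨m, hm⟩
  rw [Ideal.eq_top_iff_one]
  refine Submodule.smul_induction_on h2 (fun r hr y _ => ?_) fun _ _ => add_mem
  rw [Algebra.smul_def]
  exact Ideal.mul_mem_right _ _ (Ideal.mem_map_of_mem _ (hle hr))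

include hB' in
theorem injective_of_lTensor (f : M →ₗ[B] N)
    (h : ∀ m, Function.Injective (f.lTensor (B' m))) : Function.Injective f := by
  rw [injective_iff_map_eq_zero]
  intro x hx
  refine eq_zero_of_tmul B' hB' x fun m => h m ?_
  rw [LinearMap.lTensor_tmul, hx, tmul_zero, map_zero]

include hB' in
theorem surjective_of_lTensor (f : M →ₗ[B] N)
    (h : ∀ m, Function.Surjective (f.lTensor (B' m))) : Function.Surjective f := by
  intro y
  have : (LinearMap.range f).mkQ y = 0 := by
    refine eq_zero_of_tmul B' hB' _ fun m => ?_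
    obtain ⟨z, hz⟩ := h m (1 ⊗ₜ y)
    have h1 := congrArg ((LinearMap.range f).mkQ.lTensor (B' m)) hz
    rw [← LinearMap.lTensor_comp_apply,
      show (LinearMap.range f).mkQ ∘ₗ f = 0 from LinearMap.range_le_ker_iff.mp (by simp),
      LinearMap.lTensor_zero, LinearMap.zero_apply, LinearMap.lTensor_tmul] at h1
    exact h1.symm
  rwa [Submodule.mkQ_apply, Submodule.Quotient.mk_eq_zero] at this

end Detect

/-- A ring with an infinite residue field over a maximal ideal. -/
theorem exists_local_flat (B : Type u) [CommRing B] (m : Ideal B) [m.IsMaximal] :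
    ∃ (B' : Type u) (_ : CommRing B') (_ : Algebra B B') (_ : IsLocalRing B'),
      Module.Flat B B' ∧ m.map (algebraMap B B') ≠ ⊤ ∧ Infinite (IsLocalRing.ResidueField B') := by
  let P : Ideal (Polynomial B) := m.map Polynomial.C
  have hP : P.IsPrime := (Ideal.isPrime_map_C_iff_isPrime m).mpr inferInstance
  refine ⟨Localization.AtPrime P, inferInstance, inferInstance, inferInstance,
    Module.Flat.trans B (Polynomial B) _, ?_, ?_⟩
  · rw [IsScalarTower.algebraMap_eq B (Polynomial B), ← Ideal.map_map]
    refine ne_top_of_le_ne_top (IsLocalRing.maximalIdeal.isMaximal _).ne_top ?_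
    rw [← Localization.AtPrime.map_eq_maximalIdeal]
    exact le_of_eq rfl
  · refine Infinite.of_injective (fun i : ℕ => IsLocalRing.residue (Localization.AtPrime P)
      (algebraMap (Polynomial B) (Localization.AtPrime P) (Polynomial.X ^ i))) fun i j h => ?_
    by_contra hij
    have h1 : algebraMap (Polynomial B) (Localization.AtPrime P)
        (Polynomial.X ^ i - Polynomial.X ^ j) ∈ IsLocalRing.maximalIdeal _ := by
      rw [← IsLocalRing.residue_eq_zero_iff, map_sub, map_sub]
      exact sub_eq_zero.mpr h
    rw [IsLocalization.AtPrime.to_map_mem_maximal_iff _ P] at h1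
    have h2 := Ideal.mem_map_C_iff.mp h1 i
    rw [Polynomial.coeff_sub, Polynomial.coeff_X_pow, Polynomial.coeff_X_pow, if_pos rfl,
      if_neg hij, sub_zero] at h2
    exact Ideal.IsPrime.ne_top' (Ideal.eq_top_iff_one m |>.mpr h2)

namespace EqvRel

variable {A : Type u} [CommRing A] {C : Type v} [CommRing C] [Algebra A C] (E : EqvRel A C)

/-- The comparison map `a ⊗ a' ↦ s a * t a'`. -/
def comp : A ⊗[E.inv] A →ₐ[A] C :=
  Algebra.TensorProduct.lift (Algebra.ofId A C) E.tHom (fun _ _ => Commute.all _ _)

theorem comp_tmul (x y : A) : E.comp (x ⊗ₜ y) = algebraMap A C x * E.t y := by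
  simp [comp, Algebra.ofId_apply, Grd.tHom_apply]

theorem surjective_comp : Function.Surjective E.comp := by
  intro c
  have hc : c ∈ Submodule.span A (Set.range E.t) := E.t_span.ge trivial
  induction hc using Submodule.span_induction with
  | mem c hc =>
    obtain ⟨a, rfl⟩ := hc
    exact ⟨1 ⊗ₜ a, by rw [E.comp_tmul, map_one, one_mul]⟩
  | zero => exact ⟨0, map_zero _⟩
  | add p q _ _ hp hq =>
    obtain ⟨p', rfl⟩ := hp; obtain ⟨q', rfl⟩ := hq; exact ⟨p' + q', map_add _ _ _⟩
  | smul a p _ hp => obtain ⟨p', rfl⟩ := hp; exact ⟨a • p', map_smul _ _ _⟩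

/-- The local case with infinite residue field. -/
theorem local_case [Module.Finite A C] [Module.Projective A C] [Nontrivial A]
    [IsLocalRing E.inv] [Infinite (IsLocalRing.ResidueField E.inv)] :
    Module.Free E.inv A ∧ Function.Injective E.comp := by
  obtain ⟨r, b, b', hb⟩ := E.exists_basis_inv
  refine ⟨Module.Free.of_basis b, ?_⟩
  have : E.comp.toLinearMap = ((b.baseChange A).equiv b' (Equiv.refl _)).toLinearMap := by
    refine (b.baseChange A).ext fun i => ?_
    rw [LinearEquiv.coe_coe, Module.Basis.equiv_apply, Equiv.refl_apply, Module.Basis.baseChange_apply,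
      AlgHom.toLinearMap_apply, E.comp_tmul, map_one, one_mul, hb]
  show Function.Injective E.comp.toLinearMap
  rw [this]
  exact LinearEquiv.injective _

variable [Module.Finite A C] [Module.Projective A C]

variable (B' : Type w) [CommRing B'] [Algebra E.inv B'] [Module.Flat E.inv B']

theorem free_and_injective_baseChange [IsLocalRing B'] [Infinite (IsLocalRing.ResidueField B')] :
    Module.Free B' (E.A' B') ∧ Function.Injective (E.baseChange B').comp := by
  obtain ⟨n, ⟨F⟩⟩ := exists_frame A C
  obtain ⟨_, _⟩ := (E.frame' B' F).finite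
  let e := E.invEquiv B'
  have : IsLocalRing (E.baseChange B').inv := e.isLocalRing
  have : Nontrivial (E.A' B') :=
    (Subtype.val_injective (p := fun x => x ∈ (E.baseChange B').inv)).nontrivial
  have : Infinite (IsLocalRing.ResidueField (E.baseChange B').inv) :=
    Infinite.of_injective (IsLocalRing.ResidueField.mapEquiv e) (RingEquiv.injective _)
  obtain ⟨hfree, hinj⟩ := (E.baseChange B').local_case
  refine ⟨?_, hinj⟩
  let b := Module.Free.chooseBasis (E.baseChange B').inv (E.A' B')
  refine Module.Free.of_basis (b.mapCoeffs e.symm fun c x => ?_)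
  show e.symm c • x = (c : E.A' B') * x
  conv_rhs => rw [← e.apply_symm_apply c]
  rw [Algebra.smul_def]
  rfl

theorem flat_inv : Module.Flat E.inv A := by
  choose R hR hA hL hF hm hI using fun m : MaximalSpectrum E.inv =>
    exists_local_flat E.inv m.1
  rw [Module.Flat.iff_lTensor_injective']
  intro I
  refine injective_of_lTensor R hm _ fun m => ?_
  have := (E.free_and_injective_baseChange (R m)).1
  have hflat : Module.Flat E.inv (R m ⊗[E.inv] A) := Module.Flat.trans E.inv (R m) _
  have h := Module.Flat.lTensor_preserves_injective_linearMap (M := R m ⊗[E.inv] A) I.subtype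
    Subtype.val_injective
  have heq : ((I.subtype).lTensor A).lTensor (R m) =
      (TensorProduct.assoc E.inv (R m) A E.inv).toLinearMap ∘ₗ I.subtype.lTensor (R m ⊗[E.inv] A) ∘ₗ
        (TensorProduct.assoc E.inv (R m) A I).symm.toLinearMap := by
    ext x y z; simp
  rw [heq]
  exact (TensorProduct.assoc E.inv (R m) A E.inv).injective.comp
    (h.comp (TensorProduct.assoc E.inv (R m) A I).symm.injective)

theorem injective_comp : Function.Injective E.comp := by
  choose R hR hA hL hF hm hI using fun m : MaximalSpectrum E.inv =>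
    exists_local_flat E.inv m.1
  show Function.Injective (E.comp.toLinearMap.restrictScalars E.inv)
  refine injective_of_lTensor R hm _ fun m => ?_
  have h := (E.free_and_injective_baseChange (R m)).2
  let d := TensorProduct.AlgebraTensorModule.distribBaseChange E.inv (R m) A A
  let j : E.A' (R m) ⊗[R m] E.A' (R m) →+ E.A' (R m) ⊗[(E.baseChange (R m)).inv] E.A' (R m) :=
    TensorProduct.liftAddHom
      { toFun := fun x =>
          { toFun := fun y => x ⊗ₜ[(E.baseChange (R m)).inv] y
            map_zero' := tmul_zero _ _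
            map_add' := tmul_add _ }
        map_zero' := AddMonoidHom.ext fun y => zero_tmul _ _
        map_add' := fun x y => AddMonoidHom.ext fun z => add_tmul _ _ _ }
      (fun b x y => by
        show (b • x) ⊗ₜ[(E.baseChange (R m)).inv] y = x ⊗ₜ (b • y)
        have hb : ∀ z : E.A' (R m), b • z = (E.invEquiv (R m) b) • z := fun z => by
          rw [Algebra.smul_def, Subring.smul_def, smul_eq_mul]; rfl
        rw [hb, hb, TensorProduct.smul_tmul])
  have hj : Function.Injective j := by
    let k : E.A' (R m) ⊗[(E.baseChange (R m)).inv] E.A' (R m) →+ E.A' (R m) ⊗[R m] E.A' (R m) :=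
      TensorProduct.liftAddHom
        { toFun := fun x =>
            { toFun := fun y => x ⊗ₜ[R m] y
              map_zero' := tmul_zero _ _
              map_add' := tmul_add _ }
          map_zero' := AddMonoidHom.ext fun y => zero_tmul _ _
          map_add' := fun x y => AddMonoidHom.ext fun z => add_tmul _ _ _ }
        (fun c x y => by
          show (c • x) ⊗ₜ[R m] y = x ⊗ₜ (c • y)
          have hc : ∀ z : E.A' (R m), c • z = (E.invEquiv (R m)).symm c • z := fun z => by
            conv_lhs => rw [← (E.invEquiv (R m)).apply_symm_apply c]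
            rw [Algebra.smul_def, Algebra.smul_def]; rfl
          rw [hc, hc, TensorProduct.smul_tmul])
    refine Function.LeftInverse.injective (g := k) fun z => ?_
    induction z using TensorProduct.induction_on with
    | zero => simp
    | tmul x y => rfl
    | add p q hp hq => rw [map_add, map_add, hp, hq]
  have heq : ∀ z, (E.comp.toLinearMap.restrictScalars E.inv).lTensor (R m) z =
      (E.baseChange (R m)).comp (j (d z)) := by
    intro z
    induction z using TensorProduct.induction_on with
    | zero => simp
    | tmul r w =>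
      induction w using TensorProduct.induction_on with
      | zero => simp
      | tmul x y =>
        show r ⊗ₜ E.comp (x ⊗ₜ y) = (E.baseChange (R m)).comp (j (d (r ⊗ₜ (x ⊗ₜ y))))
        have hd : d (r ⊗ₜ (x ⊗ₜ y)) = (r ⊗ₜ x) ⊗ₜ ((1 : R m) ⊗ₜ y) := by
          simp [d, TensorProduct.AlgebraTensorModule.distribBaseChange]
        rw [hd]
        show _ = (E.baseChange (R m)).comp ((r ⊗ₜ x) ⊗ₜ ((1 : R m) ⊗ₜ y))
        rw [comp_tmul, comp_tmul, E.algebraMap_tmul]
        show _ = (r ⊗ₜ algebraMap A C x) * ((1 : R m) ⊗ₜ E.t y)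
        rw [Algebra.TensorProduct.tmul_mul_tmul, mul_one]
      | add p q hp hq => simp only [tmul_add, map_add, hp, hq]
    | add p q hp hq => simp only [map_add, hp, hq]
  intro z z' hzz
  rw [heq, heq] at hzz
  exact d.injective (hj (h hzz))

/-- `A ⊗ A ≅ C` over the invariants. -/
noncomputable def compEquiv : A ⊗[E.inv] A ≃ₐ[A] C :=
  AlgEquiv.ofBijective E.comp ⟨E.injective_comp, E.surjective_comp⟩

theorem faithfullyFlat_inv : Module.FaithfullyFlat E.inv A := by
  cases subsingleton_or_nontrivial A with
  | inl h =>
    have : Subsingleton E.inv := Subtype.val_injective.subsingleton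
    have := E.flat_inv
    refine ⟨fun m hm => ?_⟩
    exact absurd (Subsingleton.elim m ⊤) hm.ne_top
  | inr h =>
    have := E.flat_inv
    have : Algebra.IsIntegral E.inv A := ⟨E.isIntegral⟩
    refine Module.FaithfullyFlat.of_comap_surjective ?_
    have : FaithfulSMul E.inv A :=
      (faithfulSMul_iff_algebraMap_injective _ _).mpr Subtype.val_injective
    exact Algebra.IsIntegral.comap_surjective E.inv A

theorem finite_inv : Module.Finite E.inv A := by
  have := E.faithfullyFlat_inv
  have : Module.Finite A (A ⊗[E.inv] A) := Module.Finite.equiv E.compEquiv.symm.toLinearEquiv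
  exact Module.Finite.of_finite_tensorProduct_of_faithfullyFlat A

theorem finitePresentation_inv : Algebra.FinitePresentation E.inv A := by
  have := E.faithfullyFlat_inv
  have : Module.FinitePresentation A C := Module.finitePresentation_of_projective A C
  have : Algebra.FinitePresentation A C := Algebra.FinitePresentation.of_finitePresentation A C
  have : Algebra.FinitePresentation A (A ⊗[E.inv] A) :=
    Algebra.FinitePresentation.equiv E.compEquiv.symm
  exact Algebra.FinitePresentation.of_finitePresentation_tensorProduct_of_faithfullyFlat A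

end EqvRel

end GrpdLib
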