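/-
From an affine groupoid scheme to ring data.
-/
import Groth.Agent.GrpdLib.Main
import Groth.Prelude.Def_Grpd
import Mathlib.Algebra.Category.Ring.Constructions
import Mathlib.Algebra.Category.Ring.Epi
import Mathlib.AlgebraicGeometry.Morphisms.Finite
import Mathlib.AlgebraicGeometry.Morphisms.Flat
import Mathlib.AlgebraicGeometry.Morphisms.FinitePresentation

set_option autoImplicit false

universe u

open CategoryTheory CategoryTheory.Limits AlgebraicGeometry
open scoped TensorProduct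

namespace GrpdLib

/-- Consequences of a cartesian square of spectra: spanning and dual functionals. -/
theorem span_and_dual {A L R D : Type u} [CommRing A] [CommRing L] [CommRing R] [CommRing D]
    [Algebra L D] (f : A →+* L) (g : A →+* R) (ir : R →+* D)
    (h : IsPullback (Spec.map (CommRingCat.ofHom (algebraMap L D))) (Spec.map (CommRingCat.ofHom ir))
      (Spec.map (CommRingCat.ofHom f)) (Spec.map (CommRingCat.ofHom g))) :
    Submodule.span L (Set.range ir) = ⊤ ∧
      ∀ φ : R →+ A, (∀ a y, φ (g a * y) = a * φ y) →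
        ∃ ψ : D →ₗ[L] L, ∀ y, ψ (ir y) = f (φ y) := by
  let il := algebraMap L D
  let _ := f.toAlgebra
  let _ := g.toAlgebra
  have hcomm : il.comp f = ir.comp g := by
    have := h.w
    rw [← Spec.map_comp, ← Spec.map_comp] at this
    exact congrArg CommRingCat.Hom.hom (Spec.map_injective this)
  let _ : Algebra A D := (il.comp f).toAlgebra
  have : IsScalarTower A L D := IsScalarTower.of_algebraMap_eq fun _ => rfl
  let irA : R →ₐ[A] D := { ir with commutes' := fun a => (RingHom.congr_fun hcomm a).symm }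
  let l : L ⊗[A] R →ₐ[L] D :=
    Algebra.TensorProduct.lift (Algebra.ofId L D) irA (fun _ _ => Commute.all _ _)
  let lc : CommRingCat.of (L ⊗[A] R) ⟶ CommRingCat.of D := CommRingCat.ofHom l.toRingHom
  have h2 := isPullback_SpecMap_of_isPushout _ _ _ _ (CommRingCat.isPushout_tensorProduct A L R)
  have e1 : CommRingCat.ofHom (Algebra.TensorProduct.includeLeftRingHom (R := A) (A := L) (B := R)) ≫
      lc = CommRingCat.ofHom il := by
    ext x
    show l (x ⊗ₜ 1) = il x
    simp [l, il, Algebra.ofId_apply]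
  have e2 : CommRingCat.ofHom (Algebra.TensorProduct.includeRight : R →ₐ[A] L ⊗[A] R).toRingHom ≫
      lc = CommRingCat.ofHom ir := by
    ext x
    show l (1 ⊗ₜ x) = ir x
    simp [l, irA]
  have hiso : Spec.map lc = (h.isoIsPullback _ _ h2).hom := by
    apply h2.hom_ext
    · rw [IsPullback.isoIsPullback_hom_fst, ← Spec.map_comp, e1]
    · rw [IsPullback.isoIsPullback_hom_snd, ← Spec.map_comp, e2]
  have : IsIso (Spec.map lc) := hiso ▸ inferInstance
  have hbij : Function.Bijective l := (isIso_SpecMap_iff ..).mp this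
  let eqv := (AlgEquiv.ofBijective l hbij).toLinearEquiv
  have hir : ∀ y, eqv ((1 : L) ⊗ₜ y) = ir y := fun y => by simp [eqv, l, irA]
  refine ⟨?_, fun φ hφ => ?_⟩
  · rw [eq_top_iff]
    rintro d -
    obtain ⟨z, rfl⟩ := eqv.surjective d
    induction z using TensorProduct.induction_on with
    | zero => simp
    | tmul x y =>
      rw [show x ⊗ₜ[A] y = x • ((1 : L) ⊗ₜ[A] y) by
        rw [TensorProduct.smul_tmul', smul_eq_mul, mul_one], map_smul, hir]
      exact Submodule.smul_mem _ _ (Submodule.subset_span ⟨y, rfl⟩)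
    | add p q hp hq => rw [map_add]; exact add_mem hp hq
  · let φ' : R →ₗ[A] A := { φ with map_smul' := fun a y => hφ a y }
    refine ⟨(TensorProduct.AlgebraTensorModule.rid A L L).toLinearMap ∘ₗ φ'.baseChange L ∘ₗ
      eqv.symm.toLinearMap, fun y => ?_⟩
    simp only [LinearMap.comp_apply, LinearEquiv.coe_coe]
    rw [← hir, eqv.symm_apply_apply, LinearMap.baseChange_tmul,
      TensorProduct.AlgebraTensorModule.rid_tmul, Algebra.smul_def, mul_one]
    rfl

/-- Global sections of a point with values in an affine scheme. -/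
noncomputable def toΓ {X : Scheme.{u}} {D : CommRingCat.{u}} (φ : Spec D ⟶ X) : Γ(X, ⊤) ⟶ D :=
  φ.appTop ≫ (Scheme.ΓSpecIso D).hom

/-- The point of an affine scheme attached to a map on global sections. -/
noncomputable def ofΓ {X : Scheme.{u}} [IsAffine X] {D : CommRingCat.{u}} (h : Γ(X, ⊤) ⟶ D) :
    Spec D ⟶ X :=
  Spec.map h ≫ X.isoSpec.inv

theorem toΓ_comp {X Y : Scheme.{u}} {D : CommRingCat.{u}} (φ : Spec D ⟶ X) (g : X ⟶ Y) :
    toΓ (φ ≫ g) = g.appTop ≫ toΓ φ := by
  simp [toΓ]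

theorem ofΓ_toΓ {X : Scheme.{u}} [IsAffine X] {D : CommRingCat.{u}} (φ : Spec D ⟶ X) :
    ofΓ (toΓ φ) = φ := by
  rw [ofΓ, toΓ, Spec.map_comp, ← cancel_mono X.isoSpec.hom, Category.assoc, Iso.inv_hom_id,
    Category.comp_id, ← Scheme.isoSpec_hom_naturality, Scheme.isoSpec_Spec_hom]

theorem toΓ_ofΓ {X : Scheme.{u}} [IsAffine X] {D : CommRingCat.{u}} (h : Γ(X, ⊤) ⟶ D) :
    toΓ (ofΓ h) = h := by
  apply Spec.map_injective
  rw [← cancel_mono X.isoSpec.inv]
  exact ofΓ_toΓ (ofΓ h)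

theorem ofΓ_comp {X Y : Scheme.{u}} [IsAffine X] [IsAffine Y] {D : CommRingCat.{u}}
    (h : Γ(X, ⊤) ⟶ D) (g : X ⟶ Y) : ofΓ h ≫ g = ofΓ (g.appTop ≫ h) := by
  rw [← ofΓ_toΓ (ofΓ h ≫ g), toΓ_comp, toΓ_ofΓ]

theorem toΓ_injective {X : Scheme.{u}} [IsAffine X] {D : CommRingCat.{u}} {φ ψ : Spec D ⟶ X}
    (h : toΓ φ = toΓ ψ) : φ = ψ := by
  rw [← ofΓ_toΓ φ, h, ofΓ_toΓ]

section Groupoid

variable {S : Scheme.{u}} (G : Grpd.GroupoidScheme S)

/-- Source and target are jointly monic when `j` is. -/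
theorem jointly_mono [Mono G.j] {T : Scheme.{u}} {α β : T ⟶ G.R} (h₁ : α ≫ G.s = β ≫ G.s)
    (h₂ : α ≫ G.t = β ≫ G.t) : α = β := by
  rw [← cancel_mono G.j]
  apply pullback.hom_ext
  · rw [Grpd.GroupoidScheme.j, Category.assoc, Category.assoc, pullback.lift_fst]; exact h₂
  · rw [Grpd.GroupoidScheme.j, Category.assoc, Category.assoc, pullback.lift_snd]; exact h₁

theorem comp_congr {T : Scheme.{u}} {α α' β β' : T ⟶ G.R} (h : α ≫ G.s = β ≫ G.t)
    (ha : α = α') (hb : β = β') :
    pullback.lift α β h ≫ G.c = pullback.lift α' β' (ha ▸ hb ▸ h) ≫ G.c := by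
  subst ha hb; rfl

/-- The composite with the inverse of the first, on pairs with a common source, makes the pairs
a base change of the source along the target. -/
theorem isPullback_div {P : Scheme.{u}} (q₁ q₂ : P ⟶ G.R) (hq : IsPullback q₁ q₂ G.s G.s) :
    IsPullback q₁ (pullback.lift q₂ (q₁ ≫ G.i)
      (by rw [Category.assoc, G.i_t, hq.w]) ≫ G.c) G.t G.s := by
  set f := pullback.lift q₂ (q₁ ≫ G.i) (by rw [Category.assoc, G.i_t, hq.w]) ≫ G.c with hf
  have hfs : f ≫ G.s = q₁ ≫ G.t := by rw [hf, G.comp_s, Category.assoc, G.i_s]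
  refine IsPullback.of_isLimit' ⟨hfs.symm⟩ (PullbackCone.IsLimit.mk _
    (fun c => hq.lift c.fst (pullback.lift c.snd c.fst c.condition.symm ≫ G.c)
      (G.comp_s _ _ _).symm)
    (fun c => hq.lift_fst _ _ _) (fun c => ?_) (fun c m h₁ h₂ => ?_))
  · rw [hf, ← Category.assoc]
    have hl : hq.lift c.fst (pullback.lift c.snd c.fst c.condition.symm ≫ G.c)
        (G.comp_s _ _ _).symm ≫ pullback.lift q₂ (q₁ ≫ G.i)
          (by rw [Category.assoc, G.i_t, hq.w]) = pullback.lift
          (pullback.lift c.snd c.fst c.condition.symm ≫ G.c) (c.fst ≫ G.i)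
          (by rw [G.comp_s, Category.assoc, G.i_t]) := by
      apply pullback.hom_ext
      · rw [Category.assoc, pullback.lift_fst, pullback.lift_fst, hq.lift_snd]
      · rw [Category.assoc, pullback.lift_snd, pullback.lift_snd, hq.lift_fst_assoc]
    rw [hl, G.assoc c.snd c.fst (c.fst ≫ G.i) c.condition.symm (by rw [Category.assoc, G.i_t]),
      comp_congr G _ rfl (G.comp_i c.fst)]
    conv_rhs => rw [← G.comp_e c.snd]
    exact comp_congr G _ rfl (by rw [← reassoc_of% c.condition])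
  · apply hq.hom_ext
    · rw [hq.lift_fst]; exact h₁
    · rw [hq.lift_snd]
      have e2 : c.snd = m ≫ f := h₂.symm
      have hm : m ≫ f = pullback.lift (m ≫ q₂) (c.fst ≫ G.i)
          (by rw [Category.assoc, Category.assoc, G.i_t, ← h₁, Category.assoc, hq.w]) ≫ G.c := by
        rw [hf, ← Category.assoc]
        congr 1
        apply pullback.hom_ext
        · rw [Category.assoc, pullback.lift_fst, pullback.lift_fst]
        · rw [Category.assoc, pullback.lift_snd, pullback.lift_snd, ← Category.assoc]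
          exact congrArg (· ≫ G.i) h₁
      rw [comp_congr G _ (e2.trans hm) rfl, G.assoc (m ≫ q₂) (c.fst ≫ G.i) c.fst
        (by rw [Category.assoc, Category.assoc, G.i_t, ← h₁, Category.assoc, hq.w])
        (by rw [Category.assoc, G.i_s]), comp_congr G _ rfl (G.i_comp c.fst)]
      conv_lhs => rw [← G.comp_e (m ≫ q₂)]
      exact comp_congr G _ rfl (by rw [← h₁, Category.assoc, Category.assoc, ← reassoc_of% hq.w])

variable [IsAffine G.U] [IsAffine G.R]

/-- The ring data of an affine groupoid. -/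
theorem exists_grd :
    letI := G.s.appTop.hom.toAlgebra
    ∃ E : Grd Γ(G.U, ⊤) Γ(G.R, ⊤), E.t = G.t.appTop.hom := by
  let _ := G.s.appTop.hom.toAlgebra
  let A := Γ(G.U, ⊤)
  let C := Γ(G.R, ⊤)
  let D : CommRingCat.{u} := CommRingCat.of (C ⊗[A] C)
  let il : C ⟶ D := CommRingCat.ofHom Algebra.TensorProduct.includeLeftRingHom
  let ir : C ⟶ D := CommRingCat.ofHom (Algebra.TensorProduct.includeRight : C →ₐ[A] C ⊗[A] C).toRingHom
  have hpo : IsPushout G.s.appTop G.s.appTop il ir := CommRingCat.isPushout_tensorProduct A C C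
  have hnat : Spec.map G.s.appTop ≫ G.U.isoSpec.inv = G.R.isoSpec.inv ≫ G.s :=
    Scheme.isoSpec_inv_naturality G.s
  have hq : IsPullback (ofΓ (X := G.R) il) (ofΓ (X := G.R) ir) G.s G.s :=
    (isPullback_SpecMap_of_isPushout _ _ _ _ hpo).of_iso (Iso.refl _) G.R.isoSpec.symm
      G.R.isoSpec.symm G.U.isoSpec.symm (by simp [ofΓ]) (by simp [ofΓ]) (by simpa using hnat)
      (by simpa using hnat)
  set q₁ := ofΓ (X := G.R) il with hq₁
  set q₂ := ofΓ (X := G.R) ir with hq₂
  set f := pullback.lift q₂ (q₁ ≫ G.i) (by rw [Category.assoc, G.i_t, hq.w]) ≫ G.c with hf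
  have hdiv : IsPullback q₁ f G.t G.s := isPullback_div G q₁ q₂ hq
  have hfs : f ≫ G.s = q₁ ≫ G.t := hdiv.w.symm
  have hft : f ≫ G.t = q₂ ≫ G.t := by rw [hf, G.comp_t]
  have hs : Spec.map (toΓ f) ≫ G.R.isoSpec.inv = f := ofΓ_toΓ f
  have hsq : IsPullback (Spec.map il) (Spec.map (toΓ f)) (Spec.map G.t.appTop)
      (Spec.map G.s.appTop) :=
    hdiv.of_iso (Iso.refl _) G.R.isoSpec G.R.isoSpec G.U.isoSpec (by simp [q₁, ofΓ])
      (by rw [Iso.refl_hom, Category.id_comp, ← Iso.eq_comp_inv]; exact hs.symm)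
      (Scheme.isoSpec_hom_naturality G.t).symm (Scheme.isoSpec_hom_naturality G.s).symm
  have hes : G.s.appTop ≫ G.e.appTop = 𝟙 _ := by
    rw [← Scheme.Hom.comp_appTop, G.e_s]; rfl
  have het : G.t.appTop ≫ G.e.appTop = 𝟙 _ := by
    rw [← Scheme.Hom.comp_appTop, G.e_t]; rfl
  obtain ⟨hspan, hdual⟩ := span_and_dual (L := C) (D := C ⊗[A] C) G.t.appTop.hom G.s.appTop.hom (toΓ f).hom hsq
  refine ⟨⟨G.t.appTop.hom, G.e.appTop.hom, (toΓ f).hom,
    fun a => congrArg (fun φ => φ.hom a) hes, fun a => congrArg (fun φ => φ.hom a) het,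
    fun a => ?_, fun a => ?_, hspan, fun φ => ?_⟩, rfl⟩
  · have h1 : G.s.appTop ≫ toΓ f = G.t.appTop ≫ il := by
      rw [← toΓ_comp, hfs, toΓ_comp]
      exact congrArg (G.t.appTop ≫ ·) (toΓ_ofΓ il)
    exact congrArg (fun φ => φ.hom a) h1
  · have h1 : G.t.appTop ≫ toΓ f = G.t.appTop ≫ ir := by
      rw [← toΓ_comp, hft, toΓ_comp]
      exact congrArg (G.t.appTop ≫ ·) (toΓ_ofΓ ir)
    exact congrArg (fun φ => φ.hom a) h1
  · exact hdual φ.toAddMonoidHom fun a y => φ.map_smul a y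

variable [IsFinite G.s] [Flat G.s] [LocallyOfFinitePresentation G.s]

/-- The source map is finite projective. -/
theorem finite_projective :
    letI := G.s.appTop.hom.toAlgebra
    Module.Finite Γ(G.U, ⊤) Γ(G.R, ⊤) ∧ Module.Projective Γ(G.U, ⊤) Γ(G.R, ⊤) := by
  let _ := G.s.appTop.hom.toAlgebra
  have hfin : Module.Finite Γ(G.U, ⊤) Γ(G.R, ⊤) :=
    ((HasAffineProperty.iff_of_isAffine (P := @IsFinite)).mp ‹IsFinite G.s›).2
  have hflat : Module.Flat Γ(G.U, ⊤) Γ(G.R, ⊤) :=
    (HasRingHomProperty.iff_of_isAffine (P := @Flat)).mp ‹Flat G.s›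
  have hfp : Algebra.FinitePresentation Γ(G.U, ⊤) Γ(G.R, ⊤) :=
    (HasRingHomProperty.iff_of_isAffine (P := @LocallyOfFinitePresentation)).mp
      ‹LocallyOfFinitePresentation G.s›
  have : Module.FinitePresentation Γ(G.U, ⊤) Γ(G.R, ⊤) :=
    Module.FinitePresentation.of_finite_of_finitePresentation _ _
  have hproj : Module.Projective Γ(G.U, ⊤) Γ(G.R, ⊤) :=
    Module.Flat.projective_of_finitePresentation
  exact ⟨hfin, hproj⟩

/-- The ring data of an affine finite locally free equivalence relation. -/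
theorem exists_eqvRel [Mono G.j] :
    letI := G.s.appTop.hom.toAlgebra
    Module.Finite Γ(G.U, ⊤) Γ(G.R, ⊤) ∧ Module.Projective Γ(G.U, ⊤) Γ(G.R, ⊤) ∧
      ∃ E : EqvRel Γ(G.U, ⊤) Γ(G.R, ⊤), E.t = G.t.appTop.hom := by
  let _ := G.s.appTop.hom.toAlgebra
  obtain ⟨hfin, hproj⟩ := finite_projective G
  obtain ⟨E, hE⟩ := exists_grd G
  refine ⟨hfin, hproj, ⟨E, ?_⟩, hE⟩
  rw [hE]
  let A := Γ(G.U, ⊤)
  let C := Γ(G.R, ⊤)
  -- targets span: the image is an epimorphism and finite
  let T : Subalgebra A C := Algebra.adjoin A (Set.range G.t.appTop.hom)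
  have hT : Subalgebra.toSubmodule T = Submodule.span A (Set.range G.t.appTop.hom) := by
    rw [Algebra.adjoin_eq_span]
    congr 1
    rw [show Set.range G.t.appTop.hom = (MonoidHom.mrange G.t.appTop.hom.toMonoidHom :
      Set C) from rfl, Submonoid.closure_eq]
  rw [← hT, ← Algebra.top_toSubmodule]
  congr 1
  let ι : CommRingCat.of T ⟶ C := CommRingCat.ofHom T.val.toRingHom
  have hepi : Epi ι := ⟨fun {W} g₁ g₂ hg => by
    have hts : G.t.appTop ≫ g₁ = G.t.appTop ≫ g₂ := by
      ext a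
      exact congrArg (fun φ => φ.hom (⟨_, Algebra.subset_adjoin ⟨a, rfl⟩⟩ : T)) hg
    have hss : G.s.appTop ≫ g₁ = G.s.appTop ≫ g₂ := by
      ext a
      exact congrArg (fun φ => φ.hom (⟨_, T.algebraMap_mem a⟩ : T)) hg
    have := jointly_mono G (α := ofΓ g₁) (β := ofΓ g₂) (by rw [ofΓ_comp, ofΓ_comp, hss])
      (by rw [ofΓ_comp, ofΓ_comp, hts])
    rw [← toΓ_ofΓ (X := G.R) g₁, this, toΓ_ofΓ]⟩
  have hιfin : RingHom.Finite ι.hom := by
    show RingHom.Finite (algebraMap T C)
    exact RingHom.finite_algebraMap.mpr (Module.Finite.of_restrictScalars_finite A T C)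
  exact eq_top_iff.mpr fun c _ => by
    obtain ⟨x, hx⟩ := RingHom.surjective_of_epi_of_finite ι hιfin c
    rw [← hx]
    exact x.2

end Groupoid

end GrpdLib
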