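/-
Invariant affine neighbourhoods.
-/
import Groth.Agent.GrpdLib.Norm
import Groth.Agent.GrpdLib.Scheme
import Mathlib.AlgebraicGeometry.Morphisms.QuasiFinite
import Mathlib.AlgebraicGeometry.Morphisms.UniversallyOpen

set_option autoImplicit false

universe u

open CategoryTheory CategoryTheory.Limits AlgebraicGeometry

namespace GrpdLib

theorem mem_basicOpen_iff_not_mem {X : Scheme.{u}} [IsAffine X] (x : X) (f : Γ(X, ⊤)) :
    x ∈ X.basicOpen f ↔ f ∉ (X.isoSpec.hom x).asIdeal := by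
  rw [← X.toSpecΓ_preimage_basicOpen f]
  rfl

theorem isoSpec_hom_comap {X Y : Scheme.{u}} [IsAffine X] [IsAffine Y] (π : X ⟶ Y) (x : X) :
    (Y.isoSpec.hom (π x)).asIdeal = (X.isoSpec.hom x).asIdeal.comap π.appTop.hom := by
  have := congrArg (fun φ => φ x) (Scheme.isoSpec_hom_naturality π)
  simp only [Scheme.Hom.comp_apply] at this
  rw [← this]
  rfl

/-- The locus over which a function is invertible on the fibres of a finite locally free map. -/
theorem exists_norm_basicOpen {X Y : Scheme.{u}} [IsAffine Y] (π : X ⟶ Y) [IsFinite π] [Flat π]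
    [LocallyOfFinitePresentation π] (h : Γ(X, ⊤)) :
    ∃ N : Γ(Y, ⊤), ∀ y : Y, y ∈ Y.basicOpen N ↔ ∀ x : X, π x = y → x ∈ X.basicOpen h := by
  have : IsAffine X := isAffine_of_isAffineHom π
  let _ := π.appTop.hom.toAlgebra
  have hfin : Module.Finite Γ(Y, ⊤) Γ(X, ⊤) :=
    ((HasAffineProperty.iff_of_isAffine (P := @IsFinite)).mp ‹IsFinite π›).2
  have hflat : Module.Flat Γ(Y, ⊤) Γ(X, ⊤) :=
    (HasRingHomProperty.iff_of_isAffine (P := @Flat)).mp ‹Flat π›
  have hfp : Algebra.FinitePresentation Γ(Y, ⊤) Γ(X, ⊤) :=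
    (HasRingHomProperty.iff_of_isAffine (P := @LocallyOfFinitePresentation)).mp
      ‹LocallyOfFinitePresentation π›
  have : Module.FinitePresentation Γ(Y, ⊤) Γ(X, ⊤) :=
    Module.FinitePresentation.of_finite_of_finitePresentation _ _
  have : Module.Projective Γ(Y, ⊤) Γ(X, ⊤) := Module.Flat.projective_of_finitePresentation
  obtain ⟨n, ⟨F⟩⟩ := exists_frame Γ(Y, ⊤) Γ(X, ⊤)
  refine ⟨F.normF h, fun y => ?_⟩
  rw [mem_basicOpen_iff_not_mem, F.normF_mem_iff h]
  constructor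
  · intro hN x hx
    rw [mem_basicOpen_iff_not_mem]
    intro hh
    exact hN ⟨_, (X.isoSpec.hom x).isPrime, by rw [← hx]; exact (isoSpec_hom_comap π x).symm, hh⟩
  · rintro hall ⟨Q, hQ, hQy, hhQ⟩
    obtain ⟨x, hx⟩ := X.isoSpec.hom.homeomorph.bijective.2 ⟨Q, hQ⟩
    have hx' : (X.isoSpec.hom x).asIdeal = Q := congrArg PrimeSpectrum.asIdeal hx
    refine (mem_basicOpen_iff_not_mem x h).mp (hall x ?_) (hx' ▸ hhQ)
    apply Y.isoSpec.hom.homeomorph.bijective.1
    refine PrimeSpectrum.ext ?_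
    show (Y.isoSpec.hom (π x)).asIdeal = _
    rw [isoSpec_hom_comap, hx']
    exact hQy

section Groupoid

variable {S : Scheme.{u}} (G : Grpd.GroupoidScheme S)

/-- The inverse is an involution. -/
theorem i_i : G.i ≫ G.i = 𝟙 G.R := by
  have h₁ : (G.i ≫ G.i) ≫ G.s = G.i ≫ G.t := by rw [Category.assoc, G.i_s]
  have h₂ : G.i ≫ G.s = 𝟙 G.R ≫ G.t := by rw [G.i_s, Category.id_comp]
  have key := G.assoc (G.i ≫ G.i) G.i (𝟙 G.R) h₁ h₂
  have hii : pullback.lift (G.i ≫ G.i) G.i h₁ ≫ G.c = G.i ≫ G.s ≫ G.e := G.i_comp G.i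
  have hi : pullback.lift G.i (𝟙 G.R) h₂ ≫ G.c = 𝟙 G.R ≫ G.s ≫ G.e := by
    conv_rhs => rw [← G.i_comp (𝟙 G.R)]
    exact comp_congr G _ (Category.id_comp _).symm rfl
  rw [comp_congr G _ hii rfl, comp_congr G _ rfl hi] at key
  calc G.i ≫ G.i = pullback.lift (G.i ≫ G.i) ((G.i ≫ G.i) ≫ G.s ≫ G.e)
        (by simp [G.e_t]) ≫ G.c := (G.comp_e _).symm
    _ = pullback.lift (G.i ≫ G.i) (𝟙 G.R ≫ G.s ≫ G.e)
        (by rw [Category.assoc, G.i_s, G.i_t, Category.id_comp, Category.assoc, G.e_t,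
          Category.comp_id]) ≫ G.c := comp_congr G _ rfl (by
          rw [Category.assoc, reassoc_of% G.i_s, reassoc_of% G.i_t, Category.id_comp])
    _ = _ := key.symm
    _ = pullback.lift (G.t ≫ G.e) (𝟙 G.R) (by rw [Category.assoc, G.e_s, Category.comp_id,
          Category.id_comp]) ≫ G.c := comp_congr G _ (by rw [reassoc_of% G.i_s]) rfl
    _ = 𝟙 G.R := by
      conv_rhs => rw [← G.e_comp (𝟙 G.R)]
      exact comp_congr G _ (by rw [Category.id_comp]) rfl

theorem isIso_i : IsIso G.i := ⟨⟨G.i, i_i G, i_i G⟩⟩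

/-- The target inherits the properties of the source. -/
theorem t_eq : G.t = G.i ≫ G.s := G.i_s.symm

/-- The orbit relation on points. -/
def Rel (x y : G.U) : Prop := ∃ r : G.R, G.s r = x ∧ G.t r = y

theorem Rel.refl (x : G.U) : Rel G x x :=
  ⟨G.e x, by rw [← Scheme.Hom.comp_apply, G.e_s]; rfl, by rw [← Scheme.Hom.comp_apply, G.e_t]; rfl⟩

theorem Rel.symm {x y : G.U} (h : Rel G x y) : Rel G y x := by
  obtain ⟨r, rfl, rfl⟩ := h
  exact ⟨G.i r, by rw [← Scheme.Hom.comp_apply, G.i_s], by rw [← Scheme.Hom.comp_apply, G.i_t]⟩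

theorem Rel.trans {x y z : G.U} (h : Rel G x y) (h' : Rel G y z) : Rel G x z := by
  obtain ⟨r, rfl, rfl⟩ := h
  obtain ⟨r', hr', rfl⟩ := h'
  obtain ⟨q, hq₁, hq₂⟩ := Scheme.Pullback.exists_preimage_pullback (f := G.s) (g := G.t) r' r hr'
  refine ⟨G.c q, ?_, ?_⟩
  · have h1 : G.c ≫ G.s = pullback.snd G.s G.t ≫ G.s := by
      have := G.comp_s (pullback.fst G.s G.t) (pullback.snd G.s G.t) pullback.condition
      rwa [show pullback.lift (pullback.fst G.s G.t) (pullback.snd G.s G.t) pullback.condition =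
        𝟙 _ by apply pullback.hom_ext <;> simp, Category.id_comp] at this
    rw [← Scheme.Hom.comp_apply, h1, Scheme.Hom.comp_apply, hq₂]
  · have h1 : G.c ≫ G.t = pullback.fst G.s G.t ≫ G.t := by
      have := G.comp_t (pullback.fst G.s G.t) (pullback.snd G.s G.t) pullback.condition
      rwa [show pullback.lift (pullback.fst G.s G.t) (pullback.snd G.s G.t) pullback.condition =
        𝟙 _ by apply pullback.hom_ext <;> simp, Category.id_comp] at this
    rw [← Scheme.Hom.comp_apply, h1, Scheme.Hom.comp_apply, hq₁]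

/-- A set is invariant iff it is saturated. -/
theorem preimage_eq_iff (W : Set G.U) :
    G.s ⁻¹' W = G.t ⁻¹' W ↔ ∀ x y, Rel G x y → x ∈ W → y ∈ W := by
  constructor
  · rintro h x y ⟨r, rfl, rfl⟩ hx
    exact h.le hx
  · intro h
    ext r
    exact ⟨h _ _ ⟨r, rfl, rfl⟩, h _ _ (Rel.symm G ⟨r, rfl, rfl⟩)⟩

theorem opens_preimage_eq_iff (W : G.U.Opens) :
    G.s ⁻¹ᵁ W = G.t ⁻¹ᵁ W ↔ ∀ x y, Rel G x y → x ∈ W → y ∈ W := by
  refine Iff.trans ?_ (preimage_eq_iff G W)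
  exact ⟨fun h => congrArg SetLike.coe h, fun h => SetLike.coe_injective h⟩

variable [IsFinite G.s] [Flat G.s] [LocallyOfFinitePresentation G.s]

theorem isFinLocFree_t : IsFinite G.t ∧ Flat G.t ∧ LocallyOfFinitePresentation G.t := by
  have := isIso_i G
  rw [t_eq]
  exact ⟨inferInstance, inferInstance, inferInstance⟩

omit [Flat G.s] [LocallyOfFinitePresentation G.s] in
theorem finite_rel (x : G.U) : {y | Rel G x y}.Finite :=
  ((G.s.finite_preimage_singleton x).image G.t).subset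
    fun _ ⟨r, hr, hr'⟩ => ⟨r, hr, hr'⟩

/-- An invariant affine neighbourhood inside a given invariant open. -/
theorem exists_invariant_affine (u : G.U) (O : G.U.Opens) (hO : G.s ⁻¹ᵁ O = G.t ⁻¹ᵁ O)
    (huO : u ∈ O) (V : G.U.Opens) (hV : IsAffineOpen V) (huV : ∀ y, Rel G u y → y ∈ V) :
    ∃ W : G.U.Opens, IsAffineOpen W ∧ u ∈ W ∧ W ≤ O ∧ G.s ⁻¹ᵁ W = G.t ⁻¹ᵁ W := by
  classical
  obtain ⟨htf, _, _⟩ := isFinLocFree_t G
  rw [opens_preimage_eq_iff] at hO
  -- points whose class lies in `V`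
  let bad : Set G.U := G.t '' (G.s ⁻¹' (V : Set G.U)ᶜ)
  have hbad : IsClosed bad :=
    G.t.isClosedMap _ (V.isOpen.isClosed_compl.preimage G.s.continuous)
  let W0 : G.U.Opens := ⟨(O : Set G.U) ∩ badᶜ, O.isOpen.inter hbad.isOpen_compl⟩
  have hW0 : ∀ x, x ∈ W0 ↔ x ∈ O ∧ ∀ y, Rel G x y → y ∈ V := by
    intro x
    refine and_congr_right fun _ => ?_
    simp only [bad, Set.mem_compl_iff, Set.mem_image, Set.mem_preimage, not_exists, not_and]
    constructor
    · intro h y hy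
      obtain ⟨r, hr, hr'⟩ := Rel.symm G hy
      by_contra hyV
      exact h r (by rw [hr]; exact hyV) hr'
    · intro h r hr hrx
      exact hr (h _ (Rel.symm G ⟨r, rfl, hrx⟩))
  have hW0V : W0 ≤ V := fun x hx => ((hW0 x).mp hx).2 x (Rel.refl G x)
  have horb : ∀ y, Rel G u y → y ∈ W0 := fun y hy =>
    (hW0 y).mpr ⟨hO u y hy huO, fun z hz => huV z (Rel.trans G hy hz)⟩
  -- a function on `V` vanishing off `W0` and nowhere on the class
  have : IsAffine V := hV
  let W0' : V.toScheme.Opens := V.ι ⁻¹ᵁ W0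
  let Z : Set V.toScheme := (W0' : Set V.toScheme)ᶜ
  have hfin : (V.ι ⁻¹' {y | Rel G u y}).Finite :=
    (finite_rel G u).preimage V.ι.isOpenEmbedding.injective.injOn
  let e := V.toScheme.isoSpec.hom.homeomorph
  have hZ : IsClosed (e '' Z) := e.isClosedMap _ W0'.isOpen.isClosed_compl
  obtain ⟨I, hI⟩ := (PrimeSpectrum.isClosed_iff_zeroLocus_ideal _).mp hZ
  have hnot : ¬ ((I : Set Γ(V.toScheme, ⊤)) ⊆ ⋃ x ∈ (hfin.toFinset : Set V.toScheme),
      ((e x).asIdeal : Set Γ(V.toScheme, ⊤))) := by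
    rw [Ideal.subset_union_prime (f := fun x : V.toScheme => (e x).asIdeal)
      (⟨u, huV u (Rel.refl G u)⟩ : V.toScheme)
      ⟨u, huV u (Rel.refl G u)⟩ (fun x _ _ _ => (e x).isPrime)]
    rintro ⟨x, hx, hle⟩
    have hx' : Rel G u (V.ι x) := by simpa using hx
    have : e x ∈ e '' Z := by rw [hI]; exact hle
    obtain ⟨x', hx'', hxe⟩ := this
    rw [e.injective hxe] at hx''
    exact hx'' (horb _ hx')
  obtain ⟨f, hfI, hf⟩ := Set.not_subset.mp hnot
  have hf0 : ∀ x : V.toScheme, x ∈ V.toScheme.basicOpen f → x ∈ W0' := by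
    intro x hx
    by_contra hxW
    have : e x ∈ PrimeSpectrum.zeroLocus (I : Set Γ(V.toScheme, ⊤)) := hI ▸ ⟨x, hxW, rfl⟩
    exact (mem_basicOpen_iff_not_mem x f).mp hx (this hfI)
  -- restrict the source over the locus of `f`
  let D : G.U.Opens := V.ι ''ᵁ V.toScheme.basicOpen f
  have hD : IsAffineOpen D := ((isAffineOpen_top V.toScheme).basicOpen f).image_of_isOpenImmersion V.ι
  have : IsAffine D := hD
  have hDW : D ≤ W0 := by
    rintro _ ⟨x, hx, rfl⟩
    exact hf0 x hx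
  have hDV : G.s ⁻¹ᵁ D ≤ G.t ⁻¹ᵁ V := fun r hr =>
    hW0V (((hW0 _).mpr ⟨hO _ _ ⟨r, rfl, rfl⟩ ((hW0 _).mp (hDW hr)).1,
      fun z hz => ((hW0 _).mp (hDW hr)).2 z (Rel.trans G ⟨r, rfl, rfl⟩ hz)⟩))
  let τ : (G.s ⁻¹ᵁ D).toScheme ⟶ V.toScheme := G.t.resLE V (G.s ⁻¹ᵁ D) hDV
  have : IsFinite (G.s ∣_ D) := IsZariskiLocalAtTarget.restrict (P := @IsFinite) (f := G.s) inferInstance D
  have : Flat (G.s ∣_ D) := IsZariskiLocalAtTarget.restrict (P := @Flat) (f := G.s) inferInstance D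
  have : LocallyOfFinitePresentation (G.s ∣_ D) :=
    IsZariskiLocalAtTarget.restrict (P := @LocallyOfFinitePresentation) (f := G.s) inferInstance D
  obtain ⟨N, hN⟩ := exists_norm_basicOpen (G.s ∣_ D) (τ.appTop.hom f)
  have hWaff := ((isAffineOpen_top D.toScheme).basicOpen N).image_of_isOpenImmersion D.ι
  have hmem : ∀ x, x ∈ D.ι ''ᵁ D.toScheme.basicOpen N ↔ ∀ y, Rel G x y → y ∈ D := by
    intro x
    constructor
    · rintro ⟨z, hz, rfl⟩ y ⟨r, hr, rfl⟩
      have hrD : r ∈ G.s ⁻¹ᵁ D := by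
        show G.s r ∈ D
        rw [hr]; exact z.2
      have h1 := (hN z).mp hz ⟨r, hrD⟩ (D.ι.isOpenEmbedding.injective (by
        rw [← Scheme.Hom.comp_apply, morphismRestrict_ι]; exact hr))
      rw [← Scheme.preimage_basicOpen_top] at h1
      refine ⟨τ ⟨r, hrD⟩, h1, ?_⟩
      show V.ι (τ ⟨r, hrD⟩) = G.t r
      rw [← Scheme.Hom.comp_apply, Scheme.Hom.resLE_comp_ι]
      rfl
    · intro hall
      refine ⟨⟨x, hall x (Rel.refl G x)⟩, (hN _).mpr fun r hr => ?_, rfl⟩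
      rw [← Scheme.preimage_basicOpen_top]
      have h1 : G.t r.1 ∈ D := by
        refine hall _ ⟨r.1, ?_, rfl⟩
        have := congrArg D.ι hr
        rw [← Scheme.Hom.comp_apply, morphismRestrict_ι] at this
        exact this
      obtain ⟨z, hz, hz'⟩ := h1
      have : τ r = z := V.ι.isOpenEmbedding.injective (by
        rw [← Scheme.Hom.comp_apply, Scheme.Hom.resLE_comp_ι]; exact hz'.symm)
      show τ r ∈ V.toScheme.basicOpen f
      rw [this]
      exact hz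
  refine ⟨_, hWaff, (hmem u).mpr fun y hy => ?_, fun x hx => ((hW0 x).mp (hDW ((hmem x).mp hx x (Rel.refl G x)))).1, ?_⟩
  · have hyV : y ∈ V := huV y hy
    refine ⟨⟨y, hyV⟩, (mem_basicOpen_iff_not_mem _ f).mpr fun hmem' => hf ?_, rfl⟩
    simp only [Set.mem_iUnion]
    exact ⟨⟨y, hyV⟩, by simpa using hy, hmem'⟩
  · rw [opens_preimage_eq_iff]
    intro x y hxy hx
    rw [hmem] at hx ⊢
    exact fun z hz => hx z (Rel.trans G hxy hz)

end Groupoid

end GrpdLib
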