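/-
Geometric points of the invariants.
-/
import Groth.Agent.GrpdLib.BaseChange
import Groth.Agent.GrpdLib.Orbit
import Mathlib.RingTheory.MvPolynomial.Basic
import Mathlib.LinearAlgebra.LinearIndependent.Lemmas
import Mathlib.FieldTheory.IsAlgClosed.Basic
import Mathlib.RingTheory.Nullstellensatz

set_option autoImplicit false

universe u v w z

open TensorProduct

namespace GrpdLib.Grd

variable {A : Type u} [CommRing A] {C : Type v} [CommRing C] [Algebra A C] (E : Grd A C)
  [Module.Finite A C] [Module.Projective A C]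

/-- Distinct points are separated by combinations of functions. -/
theorem exists_separating {k : Type z} [Field k] {ι : Type*} [Finite ι] (h : ι → (A →+* k))
    (hinj : Function.Injective h) (v : ι → k) :
    ∃ (n : ℕ) (c : Fin n → k) (a : Fin n → A), ∀ i, ∑ l, c l * h i (a l) = v i := by
  classical
  have := Fintype.ofFinite ι
  let col : A → ι → k := fun a i => h i a
  have htop : Submodule.span k (Set.range col) = ⊤ := by
    by_contra hne
    obtain ⟨φ, hφ, hle⟩ := Submodule.exists_le_ker_of_lt_top _ (lt_of_le_of_ne le_top hne)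
    have hli : LinearIndependent k (fun i => (((h i).toMonoidHom : A →* k) : A → k)) :=
      (linearIndependent_monoidHom A k).comp (fun i => ((h i).toMonoidHom : A →* k))
        fun i j hij => hinj (RingHom.ext fun a => DFunLike.congr_fun hij a)
    have hz : ∀ i, φ (Pi.single i 1) = 0 := by
      refine fun i => Fintype.linearIndependent_iff.mp hli (fun i => φ (Pi.single i 1))
        (funext fun a => ?_) i
      have h0 : φ (col a) = 0 := hle (Submodule.subset_span ⟨a, rfl⟩)
      rw [← Finset.univ_sum_single (col a), map_sum] at h0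
      rw [Finset.sum_apply, Pi.zero_apply, ← h0]
      refine Finset.sum_congr rfl fun j _ => ?_
      rw [Pi.smul_apply, smul_eq_mul, mul_comm,
        show Pi.single j (col a j) = col a j • (Pi.single j 1 : ι → k) by
          ext l; by_cases hl : l = j <;> simp [hl],
        map_smul, smul_eq_mul]
      rfl
    apply hφ
    refine LinearMap.pi_ext' fun i => LinearMap.ext_ring ?_
    simpa using hz i
  obtain ⟨n, c, g, hg⟩ := Submodule.mem_span_set'.mp (htop.ge (Submodule.mem_top : v ∈ ⊤))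
  choose a ha using fun l => (g l).2
  refine ⟨n, c, a, fun i => ?_⟩
  rw [← hg, Finset.sum_apply]
  refine Finset.sum_congr rfl fun l _ => ?_
  rw [Pi.smul_apply, smul_eq_mul, ← ha l]

/-- Points with the same image in the invariants are equivalent. -/
theorem exists_point_of_agree [Nontrivial A] {k : Type z} [Field k] [IsAlgClosed k]
    (x₀ x₁ : A →+* k) (h : ∀ b ∈ E.inv, x₀ b = x₁ b) :
    ∃ r : C →+* k, r.comp E.t = x₀ ∧ r.comp (algebraMap A C) = x₁ := by
  classical
  obtain ⟨N, ⟨F⟩⟩ := exists_frame A C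
  by_contra hne
  push Not at hne
  let _ : Algebra A k := x₁.toAlgebra
  -- the finitely many points over `x₁`
  have hfin : Finite (C →ₐ[A] k) := by
    let f : (C →ₐ[A] k) → (k ⊗[A] C →ₐ[k] k) := fun r =>
      Algebra.TensorProduct.lift (Algebra.ofId k k) r (fun _ _ => Commute.all _ _)
    have hf : Function.Injective f := fun r r' hrr => AlgHom.ext fun c => by
      simpa [f] using DFunLike.congr_fun hrr (1 ⊗ₜ c)
    have : Finite (k ⊗[A] C →ₐ[k] k) :=
      ((linearIndependent_algHom_toLinearMap k (k ⊗[A] C) k).finite)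
    exact Finite.of_injective f hf
  let H : Set (A →+* k) := insert x₀ (Set.range fun r : C →ₐ[A] k => r.toRingHom.comp E.t)
  have : Finite H := (Set.finite_range _).insert x₀ |>.to_subtype
  obtain ⟨n, c, a, hca⟩ := exists_separating (fun i : H => i.1) Subtype.val_injective
    (fun i => if i.1 = x₀ then 0 else 1)
  -- the generic combination
  let T := MvPolynomial (Fin n) E.inv
  let z : E.A' T := ∑ l, MvPolynomial.X l ⊗ₜ a l
  let E' := E.baseChange T
  obtain ⟨q, hq⟩ := (E.invEquiv T).surjective ⟨_, E'.norm_mem (E.frame' T F) z⟩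
  let φ : E.inv →+* k := x₁.comp E.inv.subtype
  let ev : T →+* k := MvPolynomial.eval₂Hom φ c
  let _ : Algebra E.inv k := φ.toAlgebra
  have hev : ∀ b : E.inv, ev (MvPolynomial.C b) = φ b := fun b => MvPolynomial.eval₂Hom_C _ _ _
  let evA : T →ₐ[E.inv] k := { ev with commutes' := hev }
  let pt : ∀ x : A →+* k, (∀ b : E.inv, x b.1 = φ b) → (E.A' T →+* k) := fun x hx =>
    (Algebra.TensorProduct.lift evA ({ x with commutes' := hx } : A →ₐ[E.inv] k)
      (fun _ _ => Commute.all _ _)).toRingHom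
  have hx₀ : ∀ b : E.inv, x₀ b.1 = φ b := fun b => h b.1 b.2
  have hx₁ : ∀ b : E.inv, x₁ b.1 = φ b := fun b => rfl
  have hz : ∀ x hx, pt x hx z = ∑ l, c l * x (a l) := by
    intro x hx
    show (Algebra.TensorProduct.lift evA _ _) z = _
    simp only [z, map_sum, Algebra.TensorProduct.lift_tmul]
    refine Finset.sum_congr rfl fun l _ => ?_
    congr 1
    exact MvPolynomial.eval₂Hom_X' _ _ _
  have hsame : pt x₀ hx₀ (E'.norm (E.frame' T F) z) = pt x₁ hx₁ (E'.norm (E.frame' T F) z) := by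
    have hN : E'.norm (E.frame' T F) z = q ⊗ₜ (1 : A) := congrArg Subtype.val hq.symm
    rw [hN]
    show (Algebra.TensorProduct.lift evA _ _) _ = (Algebra.TensorProduct.lift evA _ _) _
    rw [Algebra.TensorProduct.lift_tmul, Algebra.TensorProduct.lift_tmul]
    simp
  -- it vanishes at `x₀`
  have h0 : pt x₀ hx₀ (E'.norm (E.frame' T F) z) = 0 := by
    let _ : Algebra (E.A' T) k := (pt x₀ hx₀).toAlgebra
    refine (E'.norm_eq_zero_iff (E.frame' T F) z k).mpr fun hu => ?_
    let r : E.C' T →ₐ[E.A' T] k :=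
      { (pt x₀ hx₀).comp E'.e with
        commutes' := fun w => congrArg (pt x₀ hx₀) (E'.e_s w) }
    let π : k ⊗[E.A' T] E.C' T →ₐ[E.A' T] k :=
      Algebra.TensorProduct.lift (AlgHom.id (E.A' T) k) r (fun _ _ => Commute.all _ _)
    refine (hu.map π).ne_zero ?_
    simp only [π, Algebra.TensorProduct.lift_tmul, AlgHom.id_apply, one_mul]
    show pt x₀ hx₀ (E'.e (E'.t z)) = 0
    rw [E'.e_t, hz]
    simpa using hca ⟨x₀, Set.mem_insert x₀ _⟩
  -- but not at `x₁`
  rw [hsame] at h0
  let _ : Algebra (E.A' T) k := (pt x₁ hx₁).toAlgebra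
  have hnu := (E'.norm_eq_zero_iff (E.frame' T F) z k).mp h0
  obtain ⟨M, hM, hzM⟩ := exists_max_ideal_of_mem_nonunits (a := (1 : k) ⊗ₜ[E.A' T] E'.t z) hnu
  let L := (k ⊗[E.A' T] E.C' T) ⧸ M
  let _ := Ideal.Quotient.field M
  have : Module.Finite (E.A' T) (E.C' T) := E'.finite_of_frame (E.frame' T F)
  have : Module.Finite k L := Module.Finite.of_surjective (Ideal.Quotient.mkₐ k M).toLinearMap
    Ideal.Quotient.mk_surjective
  let π : k ⊗[E.A' T] E.C' T →ₐ[k] k :=
    (IsAlgClosed.lift (R := k) (S := L) (M := k)).comp (Ideal.Quotient.mkₐ k M)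
  have hπ : π ((1 : k) ⊗ₜ E'.t z) = 0 := by
    show IsAlgClosed.lift (R := k) (S := L) (M := k)
      (Ideal.Quotient.mk M ((1 : k) ⊗ₜ E'.t z)) = 0
    rw [Ideal.Quotient.eq_zero_iff_mem.mpr hzM, map_zero]
  -- restrict to the original arrows
  let ρ : C →+* k := π.toRingHom.comp
    ((Algebra.TensorProduct.includeRight : E.C' T →ₐ[E.A' T] k ⊗[E.A' T] E.C' T).toRingHom.comp
      (Algebra.TensorProduct.includeRight : C →ₐ[E.inv] E.C' T).toRingHom)
  have hρs : ∀ w, ρ (algebraMap A C w) = x₁ w := by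
    intro w
    show π ((1 : k) ⊗ₜ algebraMap (E.A' T) (E.C' T) ((1 : T) ⊗ₜ w)) = _
    rw [Algebra.algebraMap_eq_smul_one (A := E.C' T), ← TensorProduct.smul_tmul,
      Algebra.smul_def, mul_one]
    rw [show (algebraMap (E.A' T) k ((1 : T) ⊗ₜ w)) ⊗ₜ[E.A' T] (1 : E.C' T) =
      algebraMap k (k ⊗[E.A' T] E.C' T) (algebraMap (E.A' T) k ((1 : T) ⊗ₜ w)) from rfl, π.commutes]
    show pt x₁ hx₁ (1 ⊗ₜ w) = x₁ w
    show (Algebra.TensorProduct.lift evA _ _) _ = _
    rw [Algebra.TensorProduct.lift_tmul, map_one, one_mul]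
    rfl
  have hρt : ρ.comp E.t ∈ H := Set.mem_insert_of_mem _ ⟨{ ρ with commutes' := hρs }, rfl⟩
  have hρne : ρ.comp E.t ≠ x₀ := fun he => hne ρ he (RingHom.ext hρs)
  have hone := hca ⟨_, hρt⟩
  rw [if_neg hρne] at hone
  apply one_ne_zero (α := k)
  rw [← hone, ← hπ]
  show _ = π ((1 : k) ⊗ₜ E'.t (∑ l, MvPolynomial.X l ⊗ₜ a l))
  rw [map_sum, tmul_sum, map_sum]
  refine Finset.sum_congr rfl fun l _ => ?_
  show c l * ρ (E.t (a l)) = π ((1 : k) ⊗ₜ (MvPolynomial.X l ⊗ₜ E.t (a l)))
  have hsplit : (MvPolynomial.X l ⊗ₜ E.t (a l) : E.C' T) =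
      ((MvPolynomial.X l : T) ⊗ₜ (1 : A) : E.A' T) • ((1 : T) ⊗ₜ E.t (a l) : E.C' T) := by
    rw [Algebra.smul_def, E.algebraMap_tmul, map_one, Algebra.TensorProduct.tmul_mul_tmul,
      mul_one, one_mul]
  rw [hsplit, TensorProduct.tmul_smul,
    show ∀ (w : E.A' T) (y : k ⊗[E.A' T] E.C' T), π (w • y) = pt x₁ hx₁ w * π y from fun w y => by
      rw [← IsScalarTower.algebraMap_smul k w y, map_smul, smul_eq_mul]; rfl]
  show _ = pt x₁ hx₁ ((MvPolynomial.X l : T) ⊗ₜ (1 : A)) * ρ (E.t (a l))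
  congr 1
  show c l = (Algebra.TensorProduct.lift evA _ _) _
  rw [Algebra.TensorProduct.lift_tmul, map_one, mul_one]
  exact (MvPolynomial.eval₂Hom_X' _ _ _).symm

/-- Every point of the invariants lifts. -/
theorem exists_point_lift [Nontrivial A] {k : Type z} [Field k] [IsAlgClosed k] (m : E.inv →+* k) :
    ∃ x : A →+* k, x.comp E.inv.subtype = m := by
  have : Algebra.IsIntegral E.inv A := ⟨E.isIntegral⟩
  have hmp : (RingHom.ker m).IsPrime := RingHom.ker_isPrime m
  obtain ⟨P, -, hP, hPm⟩ := Ideal.exists_ideal_over_prime_of_isIntegral (RingHom.ker m)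
    (⊥ : Ideal A) (by
      rw [Ideal.comap_bot_of_injective _ Subtype.val_injective]
      exact bot_le)
  let q := RingHom.ker m
  have : q.IsPrime := RingHom.ker_isPrime m
  let j : E.inv ⧸ q →+* A ⧸ P := Ideal.quotientMap P E.inv.subtype hPm.ge
  let mk : E.inv ⧸ q →+* k := Ideal.Quotient.lift q m fun _ hx => hx
  let _ := j.toAlgebra
  let _ := mk.toAlgebra
  have : Algebra.IsIntegral (E.inv ⧸ q) (A ⧸ P) := ⟨fun y => by
    obtain ⟨a, rfl⟩ := Ideal.Quotient.mk_surjective y
    exact IsIntegral.map_of_comp_eq (Ideal.Quotient.mk q) (Ideal.Quotient.mk P) rfl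
      (E.isIntegral a)⟩
  have : FaithfulSMul (E.inv ⧸ q) (A ⧸ P) := (faithfulSMul_iff_algebraMap_injective _ _).mpr
    (Ideal.quotientMap_injective' hPm.le)
  have : FaithfulSMul (E.inv ⧸ q) k := (faithfulSMul_iff_algebraMap_injective _ _).mpr
    (RingHom.lift_injective_of_ker_le_ideal q _ le_rfl)
  refine ⟨(IsAlgClosed.lift (R := E.inv ⧸ q) (S := A ⧸ P) (M := k)).toRingHom.comp
    (Ideal.Quotient.mk P), RingHom.ext fun b => ?_⟩
  show (IsAlgClosed.lift (R := E.inv ⧸ q) (S := A ⧸ P) (M := k))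
    (algebraMap (E.inv ⧸ q) (A ⧸ P) (Ideal.Quotient.mk q b)) = m b
  rw [AlgHom.commutes]
  rfl

end GrpdLib.Grd
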