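/-
Quotient sheaves by kernel pairs of fppf covers.
-/
import Groth.Agent.AlgSpLib.Bootstrap
import Mathlib.CategoryTheory.Sites.RegularEpi

set_option autoImplicit false
set_option backward.isDefEq.respectTransparency false
set_option backward.isDefEq.respectTransparency.types false

universe u

open CategoryTheory CategoryTheory.Limits AlgebraicGeometry AlgSp AlgSpLib

namespace GrpdLib

variable {S : Scheme.{u}} {R U M : Over S}

/-- An fppf cover is the quotient of its kernel pair. -/
theorem isQuotient_of_isPullback (s t : R ⟶ U) (q : U ⟶ M)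
    (sq : IsPullback t.left s.left q.left q.left) [Flat q.left]
    [LocallyOfFinitePresentation q.left] [Surjective q.left] :
    QuotSh.IsQuotient Scheme.fppfPrecoverage s t q := by
  have sqO : IsPullback t s q q :=
    IsPullback.of_map (Over.forget S) (Over.OverMorphism.ext sq.w) sq
  have w : s ≫ q = t ≫ q := sqO.w.symm
  refine ⟨w, ?_⟩
  have sq' : IsPullback ((yon S).map t) ((yon S).map s) ((yon S).map q) ((yon S).map q) :=
    sqO.map (yon S)
  have hloc : Sheaf.IsLocallySurjective ((yon S).map q) := isLocallySurjective_yon_map q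
  have hepi : Epi ((yon S).map q) := (Sheaf.isLocallySurjective_iff_epi _).mp hloc
  have : IsRegularEpiCategory (Sp S) := inferInstanceAs (IsRegularEpiCategory (Sheaf _ _))
  have : IsRegularEpi ((yon S).map q) := IsRegularEpiCategory.regularEpiOfEpi _
  have : EffectiveEpi ((yon S).map q) := inferInstance
  have hc := isColimitCoforkOfEffectiveEpi ((yon S).map q) sq'.cone sq'.isLimit
  let i := QuotSh.repIsoUliftYoneda Scheme.fppfPrecoverage (S := S)
  let e : QuotSh.rep Scheme.fppfPrecoverage M ⟶ QuotSh.quot Scheme.fppfPrecoverage s t :=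
    (i M).hom ≫ hc.desc (Cofork.ofπ (qπ s t) (qπ_condition s t).symm)
  have hfac : (yon S).map q ≫ hc.desc (Cofork.ofπ (qπ s t) (qπ_condition s t).symm) = qπ s t :=
    hc.fac _ WalkingParallelPair.one
  have hrep : QuotSh.repMap Scheme.fppfPrecoverage q ≫ e =
      QuotSh.quotπ Scheme.fppfPrecoverage s t := by
    simp only [e, i]
    rw [reassoc_of% (repIso_naturality q), hfac, qπ, Iso.hom_inv_id_assoc]
  refine ⟨⟨e, ?_, ?_⟩⟩
  · refine coequalizer.hom_ext ?_
    show coequalizer.π _ _ ≫ QuotSh.quotDesc Scheme.fppfPrecoverage q w ≫ e = _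
    rw [← Category.assoc, show coequalizer.π (QuotSh.repMap Scheme.fppfPrecoverage s)
      (QuotSh.repMap Scheme.fppfPrecoverage t) ≫ QuotSh.quotDesc Scheme.fppfPrecoverage q w =
      QuotSh.repMap Scheme.fppfPrecoverage q from coequalizer.π_desc _ _, hrep]
    exact (Category.comp_id _).symm
  · have hepi' : Epi (QuotSh.repMap Scheme.fppfPrecoverage q) := by
      rw [show QuotSh.repMap Scheme.fppfPrecoverage q =
        (i U).hom ≫ (yon S).map q ≫ (i M).inv by
          rw [← Category.assoc, ← repIso_naturality q, Category.assoc, Iso.hom_inv_id,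
            Category.comp_id]]
      infer_instance
    rw [← cancel_epi (QuotSh.repMap Scheme.fppfPrecoverage q), reassoc_of% hrep, Category.comp_id]
    exact coequalizer.π_desc _ _

end GrpdLib
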