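/-
The rank polynomial of an idempotent matrix.
-/
import Groth.Agent.GrpdLib.Frame

set_option autoImplicit false

universe u v

open Polynomial Matrix

namespace GrpdLib

variable {R : Type u} [CommRing R] {n : ℕ} (P : Matrix (Fin n) (Fin n) R)

/-- `det (1 + (X - 1) P)`. -/
noncomputable def rankPoly : R[X] :=
  (1 + ((X : R[X]) - 1) • P.map C).det

theorem eval₂_rankPoly {S : Type v} [CommRing S] (g : R →+* S) (y : S) :
    (rankPoly P).eval₂ g y = (1 + (y - 1) • P.map g).det := by
  rw [rankPoly, ← coe_eval₂RingHom, RingHom.map_det]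
  congr 1
  ext i j
  by_cases h : i = j <;> simp [h, Matrix.one_apply]

theorem rankPoly_eval_one : (rankPoly P).eval 1 = 1 := by
  rw [eval, eval₂_rankPoly]
  simp

theorem det_mul_idem {S : Type v} [CommRing S] {M : Matrix (Fin n) (Fin n) S} (hM : M * M = M)
    (a b : S) : (1 + (a - 1) • M).det * (1 + (b - 1) • M).det = (1 + (a * b - 1) • M).det := by
  rw [← Matrix.det_mul]
  congr 1
  rw [add_mul, mul_add, mul_add, one_mul, one_mul, mul_one, Matrix.smul_mul, Matrix.mul_smul,
    hM, smul_smul, add_assoc, ← add_smul, ← add_smul]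
  congr 2
  ring

variable {P} (hP : P * P = P)
include hP

theorem coeff_mul_rankPoly (r : ℕ) :
    C ((rankPoly P).coeff r) * rankPoly P = C ((rankPoly P).coeff r) * X ^ r := by
  let M : Matrix (Fin n) (Fin n) R[X][X] := P.map ((C : R[X] →+* R[X][X]).comp C)
  have hM : M * M = M := by
    simp only [M]
    rw [← Matrix.map_mul, hP]
  have e1 : (rankPoly P).map (C : R →+* R[X]) =
      (1 + ((X : R[X][X]) - 1) • M).det := by
    rw [Polynomial.map, eval₂_rankPoly]
  have e2 : C (rankPoly P) = (1 + ((C X : R[X][X]) - 1) • M).det := by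
    conv_lhs => rw [rankPoly, RingHom.map_det]
    congr 1
    ext i j
    by_cases h : i = j <;> simp [M, h, Matrix.one_apply]
  have e3 : (rankPoly P).eval₂ ((C : R[X] →+* R[X][X]).comp C) (C X * X) =
      (1 + ((C X * X : R[X][X]) - 1) • M).det := eval₂_rankPoly _ _ _
  have key : C (rankPoly P) * (rankPoly P).map (C : R →+* R[X]) =
      (rankPoly P).eval₂ ((C : R[X] →+* R[X][X]).comp C) (C X * X) := by
    rw [e1, e2, e3]
    exact det_mul_idem hM (C X) X
  have := congrArg (fun q : R[X][X] => q.coeff r) key
  simp only [coeff_C_mul, coeff_map] at this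
  rw [mul_comm] at this
  rw [this, eval₂_eq_sum_range, finsetSum_coeff]
  have hterm : ∀ b, (((C : R[X] →+* R[X][X]).comp C) ((rankPoly P).coeff b) * (C X * X) ^ b).coeff r =
      if r = b then C ((rankPoly P).coeff b) * X ^ b else 0 := by
    intro b
    rw [RingHom.comp_apply, mul_pow, ← C_pow, ← mul_assoc, ← C_mul, coeff_C_mul_X_pow]
  simp only [hterm, Finset.sum_ite_eq, Finset.mem_range]
  split_ifs with hr
  · rfl
  · rw [coeff_eq_zero_of_natDegree_lt (by omega), map_zero, zero_mul]

/-- Substituting in the rank polynomial. -/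
theorem coeff_mul_eval₂_rankPoly (r : ℕ) {S : Type v} [CommRing S] (g : R →+* S) (y : S) :
    g ((rankPoly P).coeff r) * (rankPoly P).eval₂ g y = g ((rankPoly P).coeff r) * y ^ r := by
  have := congrArg (eval₂RingHom g y) (coeff_mul_rankPoly hP r)
  simpa using this

omit hP in
/-- Where the rank polynomial has a monomial part, the reversed characteristic polynomial of a
scalar is a power of a linear one. -/
theorem det_one_sub_smul (z : R) :
    (1 - (C z * X) • P.map C : Matrix (Fin n) (Fin n) R[X]).det =
      (rankPoly P).eval₂ C (1 - C z * X) := by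
  rw [eval₂_rankPoly]
  congr 1
  rw [show (1 : R[X]) - C z * X - 1 = -(C z * X) by ring, neg_smul, sub_eq_add_neg]

end GrpdLib
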