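/-
Invariants after an arbitrary base change along the invariants.
-/
import Groth.Agent.GrpdLib.BaseChange
import Groth.Agent.GrpdLib.IdemDet
import Mathlib.Algebra.MvPolynomial.Basic
import Mathlib.RingTheory.MvPolynomial.Basic
import Mathlib.Algebra.Polynomial.Lifts
import Mathlib.Algebra.Polynomial.Reverse

set_option autoImplicit false

universe u v w

open TensorProduct Polynomial

namespace GrpdLib

theorem reflect_linear {R : Type u} [CommRing R] (f : R) :
    reflect 1 (1 - C f * X) = X - C f := by
  have h : (1 : R[X]) - C f * X = C 1 + C (-f) * X ^ 1 := by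
    rw [map_one, map_neg, pow_one, neg_mul, ← sub_eq_add_neg]
  rw [h, reflect_add, reflect_C, reflect_C_mul_X_pow, revAt_le le_rfl]
  simp [sub_eq_add_neg]

theorem reflect_linear_pow {R : Type u} [CommRing R] (f : R) (r : ℕ) :
    reflect r ((1 - C f * X) ^ r) = (X - C f) ^ r := by
  induction r with
  | zero => simp
  | succ r ih =>
    have hL : ((1 : R[X]) - C f * X).natDegree ≤ 1 :=
      (natDegree_sub_le _ _).trans (max_le (by simp) ((natDegree_C_mul_le f X).trans natDegree_X_le))
    rw [pow_succ, pow_succ, reflect_mul _ _ (natDegree_pow_le.trans (by nlinarith)) hL, ih,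
      reflect_linear]

theorem C_mul_pow_eq {R : Type u} [CommRing R] {e : R} {a b : R[X]} (h : C e * a = C e * b) :
    ∀ k : ℕ, C e * a ^ k = C e * b ^ k
  | 0 => by simp
  | k + 1 => by
    rw [pow_succ, pow_succ, ← mul_assoc, C_mul_pow_eq h k, mul_right_comm, h, mul_assoc,
      mul_comm b]

theorem reflect_mem_lifts {R S : Type u} [CommRing R] [CommRing S] {φ : R →+* S} {q : S[X]}
    (h : q ∈ lifts φ) (r : ℕ) : reflect r q ∈ lifts φ := by
  rw [lifts_iff_coeff_lifts] at h ⊢
  intro k
  rw [coeff_reflect]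
  exact h _

namespace Grd

variable {A : Type u} [CommRing A] {C : Type v} [CommRing C] [Algebra A C] (E : Grd A C)
  (B' : Type u) [CommRing B'] [Algebra E.inv B'] [Module.Finite A C] [Module.Projective A C]
  {n : ℕ} (F : Frame A C n)

/-- The structure map of the new ring. -/
noncomputable abbrev φ' : B' →+* E.A' B' := Algebra.TensorProduct.includeLeftRingHom

theorem coeff_rev_mem_range (z : E.A' B') (k : ℕ) :
    ((E.frame' B' F).rev ((E.baseChange B').mulT z)).coeff k ∈ (E.φ' B').range := by
  let B'' := MvPolynomial B' E.inv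
  let ev : B'' →ₐ[E.inv] B' := MvPolynomial.aeval id
  let evA : E.A' B'' →ₐ[E.inv] E.A' B' := Algebra.TensorProduct.map ev (AlgHom.id E.inv A)
  let evC : E.C' B'' →ₐ[E.inv] E.C' B' := Algebra.TensorProduct.map ev (AlgHom.id E.inv C)
  have hev : Function.Surjective ev := fun b => ⟨MvPolynomial.X b, MvPolynomial.aeval_X _ _⟩
  obtain ⟨z'', rfl⟩ : ∃ z'', evA z'' = z :=
    TensorProduct.map_surjective hev Function.surjective_id z
  have hdual : ∀ i w, (E.frame' B' F).dual i (evC w) = evA ((E.frame' B'' F).dual i w) := by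
    intro i w
    induction w using TensorProduct.induction_on with
    | zero => simp
    | tmul b y => rfl
    | add p q hp hq => simp only [map_add, hp, hq]
  have hT : ∀ w, (E.baseChange B').t (evA w) = evC ((E.baseChange B'').t w) := by
    intro w
    induction w using TensorProduct.induction_on with
    | zero => simp
    | tmul b a => rfl
    | add p q hp hq => simp only [map_add, hp, hq]
  have hmat : (E.frame' B' F).mat ((E.baseChange B').mulT (evA z'')) =
      ((E.frame' B'' F).mat ((E.baseChange B'').mulT z'')).map evA := by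
    ext i j
    simp only [Frame.mat, Matrix.of_apply, Matrix.map_apply, mulT, LinearMap.mulLeft_apply]
    rw [← hdual, hT, map_mul evC]
    congr 2
    exact (congrArg (· ⊗ₜ[E.inv] F.vec j) (map_one ev)).symm
  have hrev : (E.frame' B' F).rev ((E.baseChange B').mulT (evA z'')) =
      ((E.frame' B'' F).rev ((E.baseChange B'').mulT z'')).map (evA : E.A' B'' →+* E.A' B') := by
    rw [Frame.rev, Frame.rev, hmat, Matrix.charpolyRev, Matrix.charpolyRev,
      ← coe_mapRingHom, RingHom.map_det]
    congr 1
    ext i j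
    by_cases h : i = j <;> simp [h, Matrix.one_apply]
  rw [hrev, coeff_map]
  obtain ⟨b, hb⟩ := (E.invEquiv B'').surjective
    ⟨_, (E.baseChange B'').coeff_rev_mem (E.frame' B'' F) z'' k⟩
  refine ⟨ev b, ?_⟩
  have hb' : (b ⊗ₜ (1 : A) : E.A' B'') =
      ((E.frame' B'' F).rev ((E.baseChange B'').mulT z'')).coeff k := congrArg Subtype.val hb
  exact congrArg evA hb'

/-- The matrix of the identity. -/
noncomputable abbrev idMat : Matrix (Fin n) (Fin n) (E.A' B') :=
  (E.frame' B' F).mat LinearMap.id

theorem idMat_mul_self : E.idMat B' F * E.idMat B' F = E.idMat B' F := by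
  ext i j
  simp only [idMat, Frame.mat, Matrix.mul_apply, Matrix.of_apply, LinearMap.id_apply]
  conv_rhs => rw [← (E.frame' B' F).sum_eq ((E.frame' B' F).vec j)]
  simp [map_sum, mul_comm]

theorem rev_mulT_of_mem {f : E.A' B'} (hf : f ∈ (E.baseChange B').inv) :
    (E.frame' B' F).rev ((E.baseChange B').mulT f) =
      (rankPoly (E.idMat B' F)).eval₂ Polynomial.C (1 - Polynomial.C f * X) := by
  rw [← det_one_sub_smul, Frame.rev, Matrix.charpolyRev]
  congr 2
  ext i j : 2
  simp only [Matrix.smul_apply, Matrix.map_apply, idMat, Frame.mat, Matrix.of_apply, mulT,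
    LinearMap.mulLeft_apply, LinearMap.id_apply, smul_eq_mul]
  rw [← (mem_inv _).mp hf, ← Algebra.smul_def, map_smul, smul_eq_mul, map_mul]
  ring

theorem rankPoly_coeff_mem (k : ℕ) :
    (rankPoly (E.idMat B' F)).coeff k ∈ (E.φ' B').range := by
  have h1 : (1 : E.A' B') ∈ (E.baseChange B').inv := one_mem _
  have h2 : rankPoly (E.idMat B' F) =
      ((E.frame' B' F).rev ((E.baseChange B').mulT 1)).comp (1 - X) := by
    rw [E.rev_mulT_of_mem B' F h1, map_one, one_mul, ← comp, comp_assoc]
    simp
  have h3 : rankPoly (E.idMat B' F) ∈ lifts (E.φ' B') := by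
    rw [h2, comp, eval₂_eq_sum_range]
    refine sum_mem fun i _ => mul_mem ?_ (pow_mem ?_ _)
    · obtain ⟨b, hb⟩ := E.coeff_rev_mem_range B' F 1 i
      rw [← hb]
      exact C_mem_lifts _ b
    · rw [lifts_iff_liftsRing]
      exact sub_mem (one_mem _) ((lifts_iff_liftsRing _ _).mp (X_mem_lifts _))
  exact (lifts_iff_coeff_lifts _).mp h3 k

theorem rankPoly_coeff_zero : (rankPoly (E.idMat B' F)).coeff 0 = 0 := by
  classical
  let F' := E.frame' B' F
  rw [coeff_zero_eq_eval_zero, eval, eval₂_rankPoly]
  simp only [RingHom.id_apply, Matrix.map_id', zero_sub, neg_smul, one_smul]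
  set M := 1 + -(E.idMat B' F).map (RingHom.id (E.A' B')) with hM
  let v : Fin n → E.A' B' := fun i => F'.dual i 1
  have hPv : (E.idMat B' F).mulVec v = v := by
    funext i
    simp only [Matrix.mulVec, dotProduct, idMat, Frame.mat, Matrix.of_apply, LinearMap.id_apply, v]
    conv_rhs => rw [← F'.sum_eq 1]
    simp [map_sum, mul_comm, F']
  have hMv : M.mulVec v = 0 := by
    rw [hM, Matrix.add_mulVec, Matrix.one_mulVec, Matrix.neg_mulVec,
      show (E.idMat B' F).map (RingHom.id (E.A' B')) = E.idMat B' F from Matrix.map_id _, hPv]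
    simp
  have hdet : ∀ i, M.det * v i = 0 := by
    intro i
    have := congrArg (fun w => M.adjugate.mulVec w i) hMv
    simpa [Matrix.mulVec_mulVec, Matrix.adjugate_mul, Matrix.smul_mulVec] using this
  have h0 : M.det • (1 : E.C' B') = 0 := by
    rw [← F'.sum_eq 1, Finset.smul_sum]
    refine Finset.sum_eq_zero fun i _ => ?_
    rw [smul_smul, hdet, zero_smul]
  have := congrArg (E.baseChange B').e h0
  rwa [Algebra.smul_def, mul_one, (E.baseChange B').e_s, map_zero] at this

/-- An invariant of the base change is a root of a power of a linear polynomial over the new base. -/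
theorem exists_map_eq_pow {f : E.A' B'} (hf : f ∈ (E.baseChange B').inv) :
    ∃ (N : ℕ) (Q : B'[X]), 0 < N ∧ Q.map (E.φ' B') = (X - Polynomial.C f) ^ N := by
  obtain ⟨n, ⟨F⟩⟩ := exists_frame A C
  let R := rankPoly (E.idMat B' F)
  have hP := E.idMat_mul_self B' F
  let Q := (E.frame' B' F).rev ((E.baseChange B').mulT f)
  have hQ : Q ∈ lifts (E.φ' B') :=
    (lifts_iff_coeff_lifts _).mpr fun k => E.coeff_rev_mem_range B' F f k
  let N := R.natDegree.factorial
  have hone : (1 : E.A' B') = ∑ r ∈ Finset.range (R.natDegree + 1), R.coeff r := by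
    rw [← rankPoly_eval_one (E.idMat B' F), eval_eq_sum_range]
    simp [R]
  have hsum : (X - Polynomial.C f) ^ N = ∑ r ∈ Finset.range (R.natDegree + 1),
      Polynomial.C (R.coeff r) * reflect r Q ^ (N / r) := by
    conv_lhs => rw [← one_mul ((X - Polynomial.C f) ^ N), ← map_one Polynomial.C, hone, map_sum,
      Finset.sum_mul]
    refine Finset.sum_congr rfl fun r hr => ?_
    rcases Nat.eq_zero_or_pos r with rfl | hr0
    · simp [R, E.rankPoly_coeff_zero B' F]
    have hdvd : r ∣ N := Nat.dvd_factorial hr0 (by simpa [Nat.lt_succ_iff] using hr)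
    have h1 : Polynomial.C (R.coeff r) * Q = Polynomial.C (R.coeff r) * (1 - Polynomial.C f * X) ^ r := by
      simp only [Q, R]
      rw [E.rev_mulT_of_mem B' F hf]
      exact coeff_mul_eval₂_rankPoly hP r Polynomial.C _
    have h2 : Polynomial.C (R.coeff r) * reflect r Q =
        Polynomial.C (R.coeff r) * (X - Polynomial.C f) ^ r := by
      rw [← reflect_C_mul, h1, reflect_C_mul, reflect_linear_pow]
    rw [C_mul_pow_eq h2, ← pow_mul, Nat.mul_div_cancel' hdvd]
  have hmem : (X - Polynomial.C f) ^ N ∈ lifts (E.φ' B') := by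
    rw [hsum]
    refine sum_mem fun r _ => mul_mem ?_ (pow_mem (reflect_mem_lifts hQ r) _)
    obtain ⟨b, hb⟩ := E.rankPoly_coeff_mem B' F r
    simp only [R]
    rw [← hb]
    exact C_mem_lifts _ b
  obtain ⟨Q', hQ'⟩ := hmem
  exact ⟨N, Q', Nat.factorial_pos _, hQ'⟩

end Grd

end GrpdLib
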